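import Mathlib
import Cfsg.Prelude.Def_Blocks
import Cfsg.Agent.Lib.Blocks.PPart
import Cfsg.Agent.Lib.OddRealMcKay.Fibre
import Cfsg.Agent.Lib.Supersolvable.MinNormal
import Cfsg.Agent.Lib.MinimalNormal

/-!
# Real characters of degree prime to p (Dolfi-Navarro-Tiep): normal Sylow subgroup above the
odd residual
-/

set_option autoImplicit false

namespace Cfsg.Agent.Lib.RealPrimeDeg

open scoped ComplexConjugate
open Cfsg Cfsg.Agent.Lib Cfsg.Agent.Lib.OddReal

universe u

variable {G : Type u} [Group G] {p : ℕ}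

/-- The subgroup generated by the `p`-elements. -/
abbrev pElems (p : ℕ) (G : Type u) [Group G] : Subgroup G :=
  Subgroup.closure {g : G | ∃ k : ℕ, orderOf g = p ^ k}

/-- Real irreducible characters have degree prime to `p`. -/
def RealDeg (p : ℕ) (G : Type u) [Group G] : Prop :=
  ∀ χ : IrrCharacter G, (∀ g : G, ((χ : G → ℂ) g).im = 0) → ¬ p ∣ Cfsg.charDegree (χ : G → ℂ)

theorem pElems_normal (p : ℕ) (G : Type u) [Group G] : (pElems p G).Normal := by
  constructor
  intro a ha g
  have h : pElems p G ≤ (pElems p G).comap (MulAut.conj g).toMonoidHom := by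
    rw [Subgroup.closure_le]
    rintro x ⟨k, hk⟩
    refine Subgroup.subset_closure ⟨k, ?_⟩
    rw [← hk]
    exact orderOf_injective (MulAut.conj g).toMonoidHom (MulEquiv.injective _) x
  simpa using h ha

theorem mem_pElems_of_isPGroup [Fact p.Prime] {S : Subgroup G} (hS : IsPGroup p S) :
    S ≤ pElems p G := fun x hx => by
  obtain ⟨k, hk⟩ := IsPGroup.iff_orderOf.mp hS ⟨x, hx⟩
  exact Subgroup.subset_closure ⟨k, by rwa [Subgroup.orderOf_mk] at hk⟩

theorem pElems_index [Finite G] [Fact p.Prime] : ¬ p ∣ (pElems p G).index := by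
  obtain ⟨S⟩ := (inferInstance : Nonempty (Sylow p G))
  exact fun h => S.not_dvd_index (h.trans (Subgroup.index_dvd_of_le (mem_pElems_of_isPGroup S.2)))

theorem odd_index_pElems_two [Finite G] : Odd (pElems 2 G).index := by
  rw [← Nat.not_even_iff_odd, even_iff_two_dvd]
  exact pElems_index

theorem pElems_map [Finite G] [hp : Fact p.Prime] {H : Type u} [Group H] (f : G →* H)
    (hf : Function.Surjective f) : (pElems p G).map f = pElems p H := by
  refine le_antisymm ?_ ?_
  · rw [MonoidHom.map_closure, Subgroup.closure_le]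
    rintro _ ⟨x, ⟨k, hk⟩, rfl⟩
    obtain ⟨j, -, hj⟩ := (Nat.dvd_prime_pow hp.out).mp (hk ▸ orderOf_map_dvd f x)
    exact Subgroup.subset_closure ⟨j, hj⟩
  · rw [Subgroup.closure_le]
    rintro h ⟨k, hk⟩
    obtain ⟨g, rfl⟩ := hf h
    obtain ⟨x, y, hxy, hc, ⟨a, ha⟩, hy⟩ := Blocks.exists_isPPart (p := p) g
    refine ⟨x, Subgroup.subset_closure ⟨a, ha⟩, ?_⟩
    have hcop : (orderOf (f y)).Coprime p := by
      rw [Nat.coprime_comm, hp.out.coprime_iff_not_dvd]
      exact fun h => hy (h.trans (orderOf_map_dvd f y))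
    have hc' : Commute (f x) (f y) := hc.map f
    rw [← hxy, map_mul] at hk ⊢
    have h1 : f y ^ (p ^ (a + k)) = 1 := by
      have e : f y = (f x)⁻¹ * (f x * f y) := by group
      have hc2 : Commute (f x)⁻¹ (f x * f y) := ((Commute.refl _).mul_right hc').inv_left
      rw [e, hc2.mul_pow, inv_pow]
      have hx1 : f x ^ (p ^ a) = 1 := by rw [← map_pow, ← ha, pow_orderOf_eq_one, map_one]
      rw [pow_add, pow_mul, hx1, one_pow, inv_one, one_mul, mul_comm, pow_mul, ← hk,
        pow_orderOf_eq_one, one_pow]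
    have h2 : f y = 1 := orderOf_eq_one_iff.mp (Nat.eq_one_of_dvd_coprimes (hcop.pow_right _)
      dvd_rfl (orderOf_dvd_of_pow_eq_one h1))
    rw [h2, mul_one]

theorem realDeg_map [Finite G] {H : Type u} [Group H] (f : G →* H) (hf : Function.Surjective f)
    (h : RealDeg p G) : RealDeg p H := fun ψ hψ => by
  have : Finite H := Finite.of_surjective f hf
  have := h ⟨_, Chars.isIrrCharacter_comp_surjective f hf ψ.2⟩ fun g => hψ (f g)
  rwa [charDegree_congr (ψ := (ψ : H → ℂ)) (by simp)] at this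

theorem isSolvable_pElems_map [Finite G] [Fact p.Prime] {H : Type u} [Group H] (f : G →* H)
    (hf : Function.Surjective f) (h : Group.IsSolvable (pElems p G)) :
    Group.IsSolvable (pElems p H) := by
  rw [← pElems_map f hf]
  exact Group.isSolvable_of_surjective (f.subgroupMap_surjective (pElems p G))

section Key

variable [Finite G] {M Hc : Subgroup G} [hM : M.Normal] [IsMulCommutative M]

omit [Finite G] in
/-- An invariant linear character of a complemented abelian normal subgroup extends. -/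
theorem exists_trivial_ext (hd : M ⊓ Hc = ⊥) (hs : ∀ g : G, ∃ m ∈ M, ∃ h ∈ Hc, g = m * h)
    (lam : M →* ℂˣ) :
    ∃ μ : stab lam →* ℂˣ, ∀ (t : stab lam) (m : M) (h : G), h ∈ Hc → (t : G) = m * h →
      μ t = lam m := by
  choose π hπ ρ hρ hπρ using hs
  have uniq : ∀ (m m' : M) (h h' : G), h ∈ Hc → h' ∈ Hc → (m : G) * h = m' * h' → m = m' :=
    fun m m' h h' hh hh' e => by
    have h1 : (m' : G)⁻¹ * m ∈ M ⊓ Hc := Subgroup.mem_inf.mpr ⟨mul_mem (inv_mem m'.2) m.2, by
      rw [show (m' : G)⁻¹ * m = h' * h⁻¹ by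
        rw [eq_mul_inv_iff_mul_eq, mul_assoc, e, inv_mul_cancel_left]]
      exact mul_mem hh' (inv_mem hh)⟩
    rw [hd, Subgroup.mem_bot, inv_mul_eq_one] at h1
    exact Subtype.ext h1.symm
  refine ⟨MonoidHom.mk' (fun t => lam ⟨π t, hπ t⟩) fun s t => ?_, fun t m h hh e => ?_⟩
  · have hst : (s : G) * t = (π s * (ρ s * π t * (ρ s)⁻¹)) * (ρ s * ρ t) := by
      conv_lhs => rw [hπρ s, hπρ t]
      group
    have hmem : ρ s * π t * (ρ s)⁻¹ ∈ M := hM.conj_mem _ (hπ t) _
    have h1 := uniq ⟨π (s * t : stab lam), hπ _⟩ (⟨π s, hπ s⟩ * ⟨_, hmem⟩) (ρ (s * t : stab lam))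
      (ρ s * ρ t) (hρ _) (mul_mem (hρ _) (hρ _))
      ((hπρ _).symm.trans ((Subgroup.coe_mul _ s t).trans hst))
    have hρs : ρ s ∈ stab lam := by
      have e : ρ s = (π s)⁻¹ * (s : G) := eq_inv_mul_iff_mul_eq.mpr (hπρ _).symm
      rw [e]
      exact mul_mem (inv_mem (le_stab lam (hπ s))) s.2
    rw [h1, map_mul]
    congr 1
    exact DFunLike.congr_fun (mem_stab.mp hρs) ⟨π t, hπ t⟩
  · exact congrArg lam (uniq ⟨π t, hπ t⟩ m (ρ t) h (hρ _) hh ((hπρ t).symm.trans e))

/-- A linear character of `M` mapped to its inverse gives a real induced character, so its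
stabiliser has index prime to `p`. -/
theorem not_dvd_index_stab (hr : RealDeg p G) (hd : M ⊓ Hc = ⊥)
    (hs : ∀ g : G, ∃ m ∈ M, ∃ h ∈ Hc, g = m * h) (lam : M →* ℂˣ) {g : G}
    (hg : cnj g lam = lam⁻¹) : ¬ p ∣ (stab lam).index := by
  cases nonempty_fintype G
  have := Fintype.ofFinite M
  have := Fintype.ofFinite (stab lam)
  obtain ⟨μ, hμ⟩ := exists_trivial_ext hd hs lam
  obtain ⟨m₀, hm₀, h₀, hh₀, rfl⟩ := hs g
  have hh : cnj h₀ lam = lam⁻¹ := by
    rwa [cnj_mul, mem_stab.mp (le_stab lam hm₀)] at hg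
  have hres : Clifford.resTo (le_stab lam) (fun t => (μ t : ℂ)) = fun m : M => (lam m : ℂ) :=
    funext fun m => by rw [Clifford.resTo, hμ _ m 1 (one_mem _) (by simp)]
  have hirr := Clifford.isIrrCharacter_indFun_inertia (Chars.isIrrCharacter_of_hom lam)
    mem_stab_iff (le_stab lam) (Chars.isIrrCharacter_of_hom μ) (by
      rw [hres]; exact ne_of_eq_of_ne (Chars.classInner_irr_self (Chars.linIrr lam)) one_ne_zero)
  have hinv : ∀ lam' : M →* ℂˣ, ∀ x, cnj x lam'⁻¹ = (cnj x lam')⁻¹ := fun lam' x => rfl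
  have hnorm : ∀ x : G, h₀ * x * h₀⁻¹ ∈ stab lam ↔ x ∈ stab lam := fun x => by
    rw [mem_stab, mem_stab]
    have e : cnj h₀ (cnj (h₀ * x * h₀⁻¹) lam) = cnj x (cnj h₀ lam) := by
      rw [← cnj_mul, ← cnj_mul, inv_mul_cancel_right]
    constructor
    · intro h
      rw [h, hh, hinv] at e
      exact (inv_injective e).symm
    · intro h
      rw [hh, hinv, h, ← hh] at e
      have := congrArg (cnj h₀⁻¹) e
      simpa [← cnj_mul, cnj_one] using this
  have hneg : ∀ x : G, extendByZero (stab lam) (fun t => (μ t : ℂ)) (h₀ * x * h₀⁻¹) =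
      conj (extendByZero (stab lam) (fun t => (μ t : ℂ)) x) := by
    intro x
    by_cases hx : x ∈ stab lam
    · rw [Chars.extendByZero_of_mem _ hx, Chars.extendByZero_of_mem _ ((hnorm x).mpr hx)]
      obtain ⟨m, hm, k, hk, rfl⟩ := hs x
      rw [hμ ⟨_, hx⟩ ⟨m, hm⟩ k hk rfl,
        hμ ⟨_, (hnorm _).mpr hx⟩ ⟨h₀ * m * h₀⁻¹, hM.conj_mem m hm h₀⟩ (h₀ * k * h₀⁻¹)
          (mul_mem (mul_mem hh₀ hk) (inv_mem hh₀)) (by simp only; group)]
      change (cnj h₀ lam ⟨m, hm⟩ : ℂ) = _
      rw [hh, MonoidHom.inv_apply, Units.val_inv_eq_inv_val,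
        ← Complex.inv_eq_conj (Chars.norm_hom_apply lam _)]
    · rw [Chars.extendByZero_of_not_mem _ hx,
        Chars.extendByZero_of_not_mem _ fun h => hx ((hnorm x).mp h), map_zero]
  have hreal : ∀ x : G, (indFun (stab lam) (fun t => (μ t : ℂ)) x).im = 0 := fun x => by
    rw [← Complex.conj_eq_iff_im]
    simp only [indFun, map_mul, map_inv₀, map_natCast, map_sum]
    congr 1
    refine Fintype.sum_equiv (Equiv.mulRight h₀⁻¹) _ _ fun y => ?_
    rw [← hneg]
    congr 1
    simp [mul_assoc]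
  have := hr ⟨_, hirr⟩ hreal
  rwa [charDegree_eq (n := (stab lam).index) (by simp [Chars.indFun_one_eq])] at this

/-- The normalizer of a p-subgroup complements no chief factor inside the 2-residual. -/
theorem complement_false [hp : Fact p.Prime] (hr : RealDeg p G) (hMK : M ≤ pElems 2 G)
    (hne : M ≠ ⊥) (hmin : ∀ A : Subgroup G, A.Normal → A ≤ M → A = ⊥ ∨ A = M)
    {Qs : Subgroup G} (hQ : IsPGroup p Qs) (hd : M ⊓ Subgroup.normalizer (Qs : Set G) = ⊥)
    (hs : ∀ g : G, ∃ m ∈ M, ∃ h ∈ Subgroup.normalizer (Qs : Set G), g = m * h) : False := by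
  cases nonempty_fintype G
  set Hc := Subgroup.normalizer (Qs : Set G) with hHc
  -- no nontrivial linear character is mapped to its inverse
  have key : ∀ (lam : M →* ℂˣ) (g : G), cnj g lam = lam⁻¹ → lam = 1 := by
    intro lam g hg
    obtain ⟨x, hx⟩ := hQ.nonempty_fixed_point_of_prime_not_dvd_card (G ⧸ stab lam)
      (not_dvd_index_stab hr hd hs lam hg)
    obtain ⟨y, rfl⟩ := QuotientGroup.mk_surjective x
    have hQT : Qs ≤ stab lam := by
      intro q hq
      obtain ⟨m, hm, h, hh, rfl⟩ := hs y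
      have hq' : h * q * h⁻¹ ∈ Qs := (Subgroup.mem_normalizer_iff.mp hh q).mp hq
      have h1 : (m * h)⁻¹ * ((h * q * h⁻¹) * (m * h)) ∈ stab lam := by
        have := hx ⟨_, hq'⟩
        have h3 : ((h * q * h⁻¹ * (m * h) : G) : G ⧸ stab lam) = ((m * h : G) : G ⧸ stab lam) := this
        rw [QuotientGroup.eq] at h3
        simpa [mul_assoc] using inv_mem h3
      have hm' : h⁻¹ * m * h ∈ stab lam := by
        simpa using le_stab lam (hM.conj_mem m hm h⁻¹)
      have := mul_mem (mul_mem hm' h1) (inv_mem hm')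
      simpa [mul_assoc] using this
    let A : Subgroup G := Subgroup.closure {a | ∃ q ∈ Qs, ∃ m ∈ M, a = q * m * q⁻¹ * m⁻¹}
    have hAM : A ≤ M := (Subgroup.closure_le _).mpr (by
      rintro _ ⟨q, -, m, hm, rfl⟩
      exact mul_mem (hM.conj_mem m hm q) (inv_mem hm))
    have hAn : A.Normal := by
      constructor
      intro a ha g
      obtain ⟨n, hn, h, hh, rfl⟩ := hs g
      have h1 : h * a * h⁻¹ ∈ A := by
        have h2 : A ≤ A.comap (MulAut.conj h).toMonoidHom := by
          refine (Subgroup.closure_le _).mpr ?_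
          rintro _ ⟨q, hq, m, hm, rfl⟩
          refine Subgroup.subset_closure ⟨h * q * h⁻¹,
            (Subgroup.mem_normalizer_iff.mp hh q).mp hq, h * m * h⁻¹, hM.conj_mem m hm h, ?_⟩
          simp only [MulEquiv.coe_toMonoidHom, MulAut.conj_apply]
          group
        simpa using h2 ha
      have e : n * h * a * (n * h)⁻¹ = n * (h * a * h⁻¹) * n⁻¹ := by group
      rw [e, setLike_mul_comm hn (hAM h1), mul_inv_cancel_right]
      exact h1
    rcases hmin A hAn hAM with h0 | h0
    · exfalso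
      refine hne (eq_bot_iff.mpr fun m hm => ?_)
      rw [← hd]
      refine ⟨hm, ?_⟩
      have hc : ∀ q ∈ Qs, q * m = m * q := fun q hq => by
        have : q * m * q⁻¹ * m⁻¹ ∈ A := Subgroup.subset_closure ⟨q, hq, m, hm, rfl⟩
        rw [h0, Subgroup.mem_bot, mul_inv_eq_one, mul_inv_eq_iff_eq_mul] at this
        exact this
      refine Subgroup.mem_normalizer_iff.mpr fun q => ⟨fun hq => ?_, fun hq => ?_⟩
      · rw [← hc q hq, mul_inv_cancel_right]; exact hq
      · have e1 : m * q = m * (m * q * m⁻¹) := by rw [← hc _ hq, inv_mul_cancel_right]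
        rwa [mul_left_cancel e1]
    · refine MonoidHom.ext fun m => ?_
      have hker : A ≤ lam.ker.map M.subtype := (Subgroup.closure_le _).mpr (by
        rintro _ ⟨q, hq, n, hn, rfl⟩
        refine ⟨⟨q * n * q⁻¹, hM.conj_mem n hn q⟩ * ⟨n, hn⟩⁻¹, ?_, rfl⟩
        rw [SetLike.mem_coe, MonoidHom.mem_ker, map_mul, map_inv, mul_inv_eq_one]
        exact DFunLike.congr_fun (mem_stab.mp (hQT hq)) ⟨n, hn⟩)
      obtain ⟨m', hm', e⟩ := Subgroup.mem_map.mp (hker (h0.symm ▸ m.2 : (m : G) ∈ A))
      rw [← Subtype.ext e]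
      exact hm'
  -- `M` has odd order
  have hodd : Odd (Nat.card M) := by
    rw [← Nat.not_even_iff_odd, even_iff_two_dvd]
    intro h2
    have hcard : Nat.card (M →* ℂˣ) = Nat.card M := by
      rw [Chars.card_monoidHom_units, commutator_def, Subgroup.commutator_eq_bot_iff_le_centralizer.mpr
        fun a _ => Subgroup.mem_centralizer_iff.mpr fun b _ => mul_comm' b a, Subgroup.index_bot]
    have : Finite (M →* ℂˣ) := Nat.finite_of_card_ne_zero (hcard ▸ Nat.card_pos.ne')
    rw [← hcard] at h2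
    obtain ⟨lam, hlam⟩ := exists_prime_orderOf_dvd_card' 2 h2
    have h1 : lam = 1 := key lam 1 (by
      rw [cnj_one]
      refine MonoidHom.ext fun x => ?_
      rw [MonoidHom.inv_apply, eq_inv_iff_mul_eq_one, ← pow_two, ← MonoidHom.pow_apply, ← hlam,
        pow_orderOf_eq_one, MonoidHom.one_apply])
    rw [h1, orderOf_one] at hlam
    exact absurd hlam (by norm_num)
  -- 2-elements fix every linear character
  have hfix : ∀ (k : ℕ) (t : G), t ^ 2 ^ k = 1 → ∀ μ : M →* ℂˣ, cnj t μ = μ := by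
    intro k
    induction k with
    | zero => intro t ht μ; rw [pow_zero, pow_one] at ht; rw [ht, cnj_one]
    | succ k ih =>
      intro t ht μ
      have h2 : cnj t (cnj t μ) = μ := by
        rw [← cnj_mul, ← pow_two]
        exact ih (t ^ 2) (by rw [← pow_mul, ← pow_succ']; exact ht) μ
      have := key (cnj t μ / μ) t (by
        refine MonoidHom.ext fun x => ?_
        rw [MonoidHom.inv_apply, cnj_apply, MonoidHom.div_apply, MonoidHom.div_apply, inv_div]
        exact congrArg (· / cnj t μ x) (DFunLike.congr_fun h2 x))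
      exact div_eq_one.mp this
  have hcent : pElems 2 G ≤ Subgroup.centralizer (M : Set G) := by
    rw [Subgroup.closure_le]
    rintro t ⟨k, hk⟩
    refine Subgroup.mem_centralizer_iff.mpr fun m hm => ?_
    by_contra hne'
    let _ : CommGroup M := { (inferInstance : Group M) with mul_comm := mul_comm' }
    have hx : (⟨t * m * t⁻¹, hM.conj_mem m hm t⟩ / ⟨m, hm⟩ : M) ≠ 1 := by
      rw [Ne, div_eq_one, Subtype.ext_iff]
      exact fun e => hne' (mul_inv_eq_iff_eq_mul.mp e).symm
    obtain ⟨μ, hμ⟩ := CommGroup.exists_apply_ne_one_of_hasEnoughRootsOfUnity M ℂ hx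
    refine hμ ?_
    rw [map_div, div_eq_one]
    exact DFunLike.congr_fun (hfix k t (hk ▸ pow_orderOf_eq_one t) μ) ⟨m, hm⟩
  have hKH : pElems 2 G ≤ Hc := by
    rw [Subgroup.closure_le]
    rintro t ⟨k, hk⟩
    obtain ⟨m, hm, h, hh, rfl⟩ := hs t
    have ht : m * h ∈ pElems 2 G := Subgroup.subset_closure ⟨k, hk⟩
    have hhK : h ∈ pElems 2 G := by simpa using mul_mem (inv_mem (hMK hm)) ht
    have hc : Commute m h := (Subgroup.mem_centralizer_iff.mp (hcent hhK) m hm)
    have h1 : m ^ 2 ^ k * h ^ 2 ^ k = 1 := by rw [← hc.mul_pow, ← hk, pow_orderOf_eq_one]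
    have h2 : m ^ 2 ^ k ∈ M ⊓ Hc := Subgroup.mem_inf.mpr ⟨pow_mem hm _, by
      rw [eq_inv_of_mul_eq_one_left h1]; exact inv_mem (pow_mem hh _)⟩
    rw [hd, Subgroup.mem_bot] at h2
    have h3 : m = 1 := orderOf_eq_one_iff.mp (Nat.eq_one_of_dvd_coprimes
      (Nat.Coprime.pow_right k (Nat.coprime_two_right.mpr hodd))
      (Subgroup.orderOf_dvd_natCard M hm) (orderOf_dvd_of_pow_eq_one h2))
    rw [h3, one_mul]
    exact hh
  exact hne (eq_bot_iff.mpr fun m hm => hd ▸ ⟨hm, hKH (hMK hm)⟩)

end Key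

/-- If `U` is normal with `U` a `p`-group modulo the 2-residual, its Sylow subgroup is normal. -/
theorem sylow_normal_of_le [hp : Fact p.Prime] : ∀ (n : ℕ) (G : Type u) [Group G] [Finite G],
    Nat.card G = n → Group.IsSolvable (pElems p G) → RealDeg p G → ∀ (U : Subgroup G), U.Normal →
    pElems 2 G ≤ U → ∀ a : ℕ, (∀ u ∈ U, u ^ p ^ a ∈ pElems 2 G) → ∀ Q : Sylow p U,
    ((Q : Subgroup U).map U.subtype).Normal := by
  intro n
  induction n using Nat.strong_induction_on with
  | _ n IH =>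
    intro G _ _ hn hsol hr U hU hKU a hUp Q
    set Qs := (Q : Subgroup U).map U.subtype with hQs
    have hQP : IsPGroup p Qs := Q.2.map _
    have hQU : Qs ≤ U := Subgroup.map_subtype_le _
    by_cases hK : pElems 2 G = ⊥
    · have hUP : IsPGroup p U := fun u => ⟨a, Subtype.ext (by
        simpa [hK] using hUp u u.2)⟩
      have hQ : (Q : Subgroup U) = ⊤ :=
        (Q.3 (hUP.to_subgroup ⊤) le_top).symm
      rw [hQs, hQ, ← MonoidHom.range_eq_map, Subgroup.range_subtype]
      exact hU
    have := pElems_normal 2 G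
    obtain ⟨M, hMn, hMne, hMK, hmin⟩ :=
      MinimalNormal.exists_minimal_normal_le (pElems_normal 2 G) hK
    let f := QuotientGroup.mk' M
    have hf : Function.Surjective f := QuotientGroup.mk'_surjective M
    have hlt : Nat.card (G ⧸ M) < n := by
      rw [← hn]
      exact Supersolvable.card_quotient_lt hMne
    have hMU : M ≤ U := hMK.trans hKU
    let Q' : Sylow p (U.map f) := Q.mapSurjective (f.subgroupMap_surjective U)
    have hQ' : (Q' : Subgroup (U.map f)).map (U.map f).subtype = Qs.map f := by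
      rw [Sylow.coe_mapSurjective, hQs, Subgroup.map_map, Subgroup.map_map]
      rfl
    have hQn : (Qs.map f).Normal := hQ' ▸ IH _ hlt (G ⧸ M) rfl (isSolvable_pElems_map f hf hsol)
      (realDeg_map f hf hr) (U.map f) (hU.map f hf)
      (pElems_map (p := 2) f hf ▸ Subgroup.map_mono hKU) a (by
        rintro _ ⟨u, hu, rfl⟩
        rw [← map_pow, ← pElems_map (p := 2) f hf]
        exact Subgroup.mem_map_of_mem f (hUp u hu)) Q'
    set L := Qs ⊔ M with hL
    have hLn : L.Normal := by
      rw [hL, ← QuotientGroup.ker_mk' M, ← Subgroup.comap_map_eq]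
      exact hQn.comap f
    have hLU : L ≤ U := sup_le hQU hMU
    have hQL : Qs ≤ L := le_sup_left
    have hidx : ¬ p ∣ (Qs.subgroupOf L).index := fun h => Q.not_dvd_index (by
      have e : Qs.relIndex L * L.relIndex U = Qs.relIndex U :=
        Subgroup.relIndex_mul_relIndex _ _ _ hQL hLU
      have e2 : Qs.relIndex U = (Q : Subgroup U).index := by
        rw [Subgroup.relIndex, hQs, Subgroup.subgroupOf,
          Subgroup.comap_map_eq_self_of_injective U.subtype_injective]
      exact e2 ▸ e ▸ h.mul_right _)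
    let QL : Sylow p L := IsPGroup.toSylow
      (hQP.of_equiv (Subgroup.subgroupOfEquivOfLe hQL).symm) hidx
    have hfr := Sylow.normalizer_sup_eq_top QL
    have hQLc : (QL : Subgroup L).map L.subtype = Qs := Subgroup.map_subgroupOf_eq_of_le hQL
    rw [hQLc, hL, ← sup_assoc, sup_eq_left.mpr Subgroup.le_normalizer] at hfr
    by_cases hMH : M ≤ Subgroup.normalizer (Qs : Set G)
    · rw [sup_eq_left.mpr hMH] at hfr
      exact Subgroup.normalizer_eq_top_iff.mp hfr
    have hMp : M ≤ pElems p G := by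
      have hn' : (M ⊓ pElems p G).Normal := by
        have := pElems_normal p G
        infer_instance
      refine inf_eq_left.mp ((hmin _ hn' inf_le_left).resolve_left fun h => hMH fun m hm => ?_)
      have hc := fun q (hq : q ∈ Qs) => Subgroup.commute_of_normal_of_disjoint M (pElems p G) hMn
        (pElems_normal p G) (disjoint_iff.mpr h) m q hm (mem_pElems_of_isPGroup hQP hq)
      refine Subgroup.mem_normalizer_iff.mpr fun q => ⟨fun hq => ?_, fun hq => ?_⟩
      · rw [(hc q hq).eq, mul_inv_cancel_right]; exact hq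
      · have e1 : m * q = m * (m * q * m⁻¹) := by rw [(hc _ hq).eq, inv_mul_cancel_right]
        rwa [mul_left_cancel e1]
    have : Group.IsSolvable M := by
      have := hsol
      exact Group.isSolvable_of_isSolvable_injective (Subgroup.inclusion_injective hMp)
    have : IsMulCommutative M := Supersolvable.isMulCommutative_of_minimal hMne hmin
    have hs : ∀ g : G, ∃ m ∈ M, ∃ h ∈ Subgroup.normalizer (Qs : Set G), g = m * h := by
      intro g
      have hg : g ∈ ((M ⊔ Subgroup.normalizer (Qs : Set G) : Subgroup G) : Set G) := by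
        rw [sup_comm, hfr]; exact Subgroup.mem_top g
      rw [Subgroup.normal_mul] at hg
      obtain ⟨m, hm, h, hh, rfl⟩ := Set.mem_mul.mp hg
      exact ⟨m, hm, h, hh, rfl⟩
    have hdn : (M ⊓ Subgroup.normalizer (Qs : Set G)).Normal := by
      constructor
      intro x hx g
      obtain ⟨m, hm, h, hh, rfl⟩ := hs g
      have h1 : h * x * h⁻¹ ∈ M ⊓ Subgroup.normalizer (Qs : Set G) :=
        Subgroup.mem_inf.mpr ⟨hMn.conj_mem x hx.1 h, mul_mem (mul_mem hh hx.2) (inv_mem hh)⟩
      have e : m * h * x * (m * h)⁻¹ = m * (h * x * h⁻¹) * m⁻¹ := by group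
      rw [e, setLike_mul_comm hm h1.1, mul_inv_cancel_right]
      exact h1
    exact (complement_false hr hMK hMne hmin hQP
      ((hmin _ hdn inf_le_left).resolve_right fun h => hMH (inf_eq_left.mp h)) hs).elim

/-- The Sylow `p`-subgroups of the 2-residual, or of a `p`-extension of it, are normal. -/
theorem sylow_normal [Finite G] [Fact p.Prime] (hsol : Group.IsSolvable (pElems p G))
    (hr : RealDeg p G) (U : Subgroup G) [hU : U.Normal] (hKU : pElems 2 G ≤ U) (a : ℕ)
    (hUp : ∀ u ∈ U, u ^ p ^ a ∈ pElems 2 G) (Q : Sylow p U) : (Q : Subgroup U).Normal := by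
  have := (sylow_normal_of_le _ G rfl hsol hr U hU hKU a hUp Q).comap U.subtype
  rwa [Subgroup.comap_map_eq_self_of_injective U.subtype_injective] at this

end Cfsg.Agent.Lib.RealPrimeDeg
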