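import Mathlib
import Cfsg.Agent.Lib.RealPrimeDeg.Basic
import Cfsg.Agent.Lib.CharSums.OddIndex
import Cfsg.Agent.Lib.Chars.Real
import Cfsg.Agent.Lib.Chars.Integral
import Cfsg.Agent.Lib.Coherence.Degree

/-!
# Normal subgroups in the derived group of a Sylow subgroup lie in the kernels of real characters
-/

set_option autoImplicit false

namespace Cfsg.Agent.Lib.RealPrimeDeg

open scoped ComplexConjugate
open Cfsg Cfsg.Agent.Lib Cfsg.Agent.Lib.OddReal

universe u

variable {G : Type u} [Group G] [Finite G] {p : ℕ} [hp : Fact p.Prime]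

/-- A character of `p'`-degree of a group has a linear constituent on each `p`-subgroup. -/
theorem exists_linear_constituent {P : Subgroup G} [Fintype P] (hP : IsPGroup p P) {χ : G → ℂ}
    (hχ : IsCharacter G χ) (hdeg : ¬ p ∣ Cfsg.charDegree χ) :
    ∃ ν : P →* ℂˣ, classInner (fun x : P => χ x) (fun x => (ν x : ℂ)) ≠ 0 := by
  classical
  have hφ := Chars.isCharacter_restrict P hχ
  obtain ⟨m, hm⟩ := Chars.isCharacter_exists_nat_decomp hφ
  have hsum : Cfsg.charDegree χ = ∑ θ : IrrCharacter P, m θ * Cfsg.charDegree (θ : P → ℂ) := by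
    apply charDegree_eq
    have h1 : χ 1 = (fun x : P => χ x) 1 := rfl
    rw [h1, hm]
    simp only [Finset.sum_apply, Pi.smul_apply, smul_eq_mul]
    push_cast
    exact Finset.sum_congr rfl fun θ _ => by rw [← charDegree_spec (Chars.irr_isCharacter θ)]
  obtain ⟨θ, hθ⟩ : ∃ θ : IrrCharacter P, ¬ p ∣ m θ * Cfsg.charDegree (θ : P → ℂ) := by
    by_contra h
    push Not at h
    exact hdeg (hsum ▸ Finset.dvd_sum fun θ _ => h θ)
  obtain ⟨d, -, hd, hdvd⟩ := Chars.irr_degree_dvd_card θ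
  rw [charDegree_eq hd] at hθ
  obtain ⟨a, ha⟩ := IsPGroup.iff_card.mp hP
  rw [ha] at hdvd
  obtain ⟨j, -, rfl⟩ := (Nat.dvd_prime_pow hp.out).mp hdvd
  rcases Nat.eq_zero_or_pos j with rfl | hj
  · obtain ⟨ν, hν⟩ := Chars.exists_hom_of_degree_one (Chars.irr_isCharacter θ) (by simpa using hd)
    refine ⟨ν, ?_⟩
    rw [← hν, hm, Chars.classInner_sum_smul_irr, Nat.cast_ne_zero]
    intro h0
    exact hθ (by rw [h0, Nat.zero_mul]; exact dvd_zero p)
  · exact absurd ((dvd_pow_self p hj.ne').mul_left (m θ)) hθ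

/-- A normal subgroup inside the derived group of a `p`-subgroup is in the kernel of every
character of `p'`-degree. -/
theorem le_ker_of_le_commutator {P : Subgroup G} (hP : IsPGroup p P) (M : Subgroup G) [M.Normal]
    (hMP : M ≤ ⁅P, P⁆) (χ : IrrCharacter G) (hdeg : ¬ p ∣ Cfsg.charDegree (χ : G → ℂ)) :
    ∀ x ∈ M, (χ : G → ℂ) x = (χ : G → ℂ) 1 := by
  classical
  cases nonempty_fintype G
  have := Fintype.ofFinite P
  have := Fintype.ofFinite M
  obtain ⟨ν, hν⟩ := exists_linear_constituent hP (Chars.irr_isCharacter χ) hdeg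
  have hMP' : M ≤ P := hMP.trans (Subgroup.commutator_le_self P)
  have hν1 : ∀ x : P, (x : G) ∈ ⁅P, P⁆ → ν x = 1 := by
    intro x hx
    rw [← Subgroup.map_subtype_commutator] at hx
    obtain ⟨y, hy, e⟩ := Subgroup.mem_map.mp hx
    rw [← Subtype.ext e]
    exact Abelianization.commutator_subset_ker ν hy
  have hres : (fun m : M => ((Chars.linIrr ν : IrrCharacter P) : P → ℂ)
      (Subgroup.inclusion hMP' m)) = fun _ => 1 := funext fun m => by
    show ((ν (Subgroup.inclusion hMP' m) : ℂˣ) : ℂ) = 1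
    rw [hν1 _ (hMP m.2), Units.val_one]
  have h1 := Chars.classInner_irr_self (Chars.linIrr (1 : M →* ℂˣ))
  have hone : ((Chars.linIrr (1 : M →* ℂˣ) : IrrCharacter M) : M → ℂ) = fun _ => 1 := rfl
  rw [hone] at h1
  have hc := constituent_comp (Subgroup.inclusion hMP')
    (Chars.isCharacter_restrict P (Chars.irr_isCharacter χ)) (Chars.linIrr ν) hν
    (Chars.linIrr (1 : M →* ℂˣ)).2 (by rw [hres, hone, h1]; exact one_ne_zero)
  have hc' : classInner (Clifford.resFun M (χ : G → ℂ))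
      ((Chars.linIrr (1 : M →* ℂˣ) : IrrCharacter M) : M → ℂ) ≠ 0 := hc
  have key := Clifford.resFun_eq_smul_of_invariant χ.2 (Chars.linIrr (1 : M →* ℂˣ)).2 hc'
    fun g => rfl
  intro x hx
  have e1 := congrFun key ⟨x, hx⟩
  have e2 := congrFun key 1
  simp only [Clifford.resFun, Pi.smul_apply, hone, smul_eq_mul, mul_one, OneMemClass.coe_one]
    at e1 e2
  rw [e1, e2]

/-- A real element of a quotient by a normal subgroup of odd order lifts to a real element. -/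
theorem exists_real_lift {K L : Type u} [Group K] [Finite K] [Group L] (f : K →* L)
    (hf : Function.Surjective f) (hodd : Odd (Nat.card f.ker)) (x : L) (hx : IsConj x x⁻¹) :
    ∃ y : K, f y = x ∧ IsConj y y⁻¹ := by
  classical
  obtain ⟨x₀, rfl⟩ := hf x
  obtain ⟨c, hc⟩ := isConj_iff.mp hx
  obtain ⟨g₀, rfl⟩ := hf c
  -- replace the inverting element by a 2-element
  obtain ⟨e, o, ho, hn⟩ : ∃ e o, Odd o ∧ orderOf g₀ = 2 ^ e * o := by
    obtain ⟨e, o, ho, hn⟩ :=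
      Nat.exists_eq_pow_mul_and_not_dvd (orderOf_pos g₀).ne' 2 (by norm_num)
    exact ⟨e, o, Nat.not_even_iff_odd.mp fun h => ho (even_iff_two_dvd.mp h), hn⟩
  set g := g₀ ^ o with hgdef
  have hg2 : g ^ 2 ^ (e + 1) = 1 := by
    rw [hgdef, ← pow_mul, pow_succ, ← mul_assoc, mul_comm o, ← hn, pow_mul, pow_orderOf_eq_one,
      one_pow]
  have hgx : f g * f x₀ * (f g)⁻¹ = (f x₀)⁻¹ := by
    obtain ⟨j, rfl⟩ := ho
    have h2 : f g₀ ^ 2 * f x₀ = f x₀ * f g₀ ^ 2 := by
      have h1 : f g₀ * (f x₀)⁻¹ * (f g₀)⁻¹ = f x₀ := by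
        have := congrArg (·⁻¹) hc
        simpa [mul_assoc] using this
      calc f g₀ ^ 2 * f x₀ = f g₀ * (f g₀ * f x₀ * (f g₀)⁻¹) * (f g₀)⁻¹ * f g₀ ^ 2 := by rw [pow_two]; group
        _ = f g₀ * (f x₀)⁻¹ * (f g₀)⁻¹ * f g₀ ^ 2 := by rw [hc]
        _ = _ := by rw [h1]
    have h3 : Commute ((f g₀ ^ 2) ^ j) (f x₀)⁻¹ := (Commute.pow_left h2 j).inv_right
    calc f g * f x₀ * (f g)⁻¹ = (f g₀ ^ 2) ^ j * (f g₀ * f x₀ * (f g₀)⁻¹) * ((f g₀ ^ 2) ^ j)⁻¹ := by
          rw [hgdef, map_pow, pow_succ, pow_mul]; group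
      _ = _ := by rw [hc, h3.eq, mul_inv_cancel_right]
  let Y := {y : K // f y = f x₀}
  have hstab : ∀ y : K, f y = f x₀ → f (g * y⁻¹ * g⁻¹) = f x₀ := fun y hy => by
    rw [map_mul, map_mul, map_inv, map_inv, hy]
    have := congrArg (·⁻¹) hgx
    simpa [mul_assoc] using this
  have hstab' : ∀ y : K, f y = f x₀ → f ((g⁻¹ * y * g)⁻¹) = f x₀ := fun y hy => by
    rw [map_inv, map_mul, map_mul, map_inv, hy, inv_eq_iff_eq_inv, ← hgx]
    have := congrArg (·⁻¹) hgx
    calc (f g)⁻¹ * f x₀ * f g = (f g)⁻¹ * ((f x₀)⁻¹)⁻¹ * f g := by rw [inv_inv]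
      _ = (f g)⁻¹ * (f g * f x₀ * (f g)⁻¹)⁻¹ * f g := by rw [hgx]
      _ = (f x₀)⁻¹ := by group
      _ = _ := hgx.symm
  let φ : Equiv.Perm Y :=
    { toFun := fun y => ⟨g * y.1⁻¹ * g⁻¹, hstab y.1 y.2⟩
      invFun := fun y => ⟨(g⁻¹ * y.1 * g)⁻¹, hstab' y.1 y.2⟩
      left_inv := fun y => Subtype.ext (by group)
      right_inv := fun y => Subtype.ext (by group) }
  have hpow : ∀ (j : ℕ) (y : Y), ((φ ^ (2 * j)) y).1 = g ^ (2 * j) * y.1 * (g ^ (2 * j))⁻¹ := by
    intro j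
    induction j with
    | zero => intro y; simp
    | succ j ih =>
      intro y
      rw [mul_add, mul_one, pow_add, Equiv.Perm.mul_apply, ih, pow_two, Equiv.Perm.mul_apply]
      show g ^ (2 * j) * (g * (g * y.1⁻¹ * g⁻¹)⁻¹ * g⁻¹) * _ = _
      rw [pow_add, pow_two]
      group
  have hφ2 : φ ^ 2 ^ (e + 1) = 1 := by
    ext y
    rw [pow_succ', hpow, ← pow_succ', hg2, Equiv.Perm.one_apply]
    simp
  have hP : IsPGroup 2 (Subgroup.zpowers φ) := by
    refine IsPGroup.iff_orderOf.mpr fun z => ?_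
    obtain ⟨k, hk⟩ := z.2
    have hd : orderOf z ∣ 2 ^ (e + 1) := by
      refine orderOf_dvd_of_pow_eq_one (Subtype.ext ?_)
      rw [Subgroup.coe_pow, Subgroup.coe_one, ← hk]
      show (φ ^ k) ^ 2 ^ (e + 1) = 1
      rw [← zpow_natCast, ← zpow_mul, mul_comm, zpow_mul, zpow_natCast, hφ2, one_zpow]
    obtain ⟨j, -, hj⟩ := (Nat.dvd_prime_pow Nat.prime_two).mp hd
    exact ⟨j, hj⟩
  have hcard : ¬ 2 ∣ Nat.card Y := by
    have eY : Y ≃ f.ker :=
      { toFun := fun y => ⟨x₀⁻¹ * y.1, by rw [MonoidHom.mem_ker, map_mul, map_inv, y.2, inv_mul_cancel]⟩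
        invFun := fun z => ⟨x₀ * z.1, by rw [map_mul, MonoidHom.mem_ker.mp z.2, mul_one]⟩
        left_inv := fun y => Subtype.ext (mul_inv_cancel_left _ _)
        right_inv := fun z => Subtype.ext (inv_mul_cancel_left _ _) }
    rw [Nat.card_congr eY]
    exact hodd.not_two_dvd_nat
  obtain ⟨y, hy⟩ := hP.nonempty_fixed_point_of_prime_not_dvd_card Y hcard
  refine ⟨y.1, y.2, isConj_iff.mpr ⟨g, ?_⟩⟩
  have h1 : g * y.1⁻¹ * g⁻¹ = y.1 :=
    congrArg Subtype.val (hy ⟨φ, Subgroup.mem_zpowers φ⟩)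
  have := congrArg (·⁻¹) h1
  simpa [mul_assoc] using this

/-- If an odd-order normal subgroup is in the kernel of all real irreducible characters then it
contains no nontrivial real element. -/
theorem eq_one_of_real_of_le_ker {K : Type u} [Group K] [Finite K] (N : Subgroup K) [N.Normal]
    (hodd : Odd (Nat.card N))
    (hker : ∀ θ : IrrCharacter K, (∀ k, ((θ : K → ℂ) k).im = 0) →
      ∀ x ∈ N, (θ : K → ℂ) x = (θ : K → ℂ) 1) {a : K} (haN : a ∈ N) (ha : IsConj a a⁻¹) : a = 1 := by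
  classical
  let f := QuotientGroup.mk' N
  let RC := fun (L : Type u) [Group L] =>
    {C : ConjClasses L // ∀ g : L, ConjClasses.mk g = C → IsConj g g⁻¹}
  have hcardirr : Nat.card {θ : IrrCharacter K // ∀ k, ((θ : K → ℂ) k).im = 0} =
      Nat.card {ψ : IrrCharacter (K ⧸ N) // ∀ k, ((ψ : K ⧸ N → ℂ) k).im = 0} := by
    symm
    refine Nat.card_eq_of_bijective (fun ψ => ⟨Chars.inflate N ψ.1, fun k => ψ.2 _⟩)
      ⟨fun a b h => Subtype.ext (Chars.inflate_injective N (congrArg Subtype.val h)), ?_⟩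
    rintro ⟨θ, hθ⟩
    obtain ⟨ψ, hψ⟩ := Chars.exists_irr_quotient N θ (hker θ hθ)
    refine ⟨⟨ψ, fun q => ?_⟩, Subtype.ext (Subtype.ext (funext hψ))⟩
    obtain ⟨k, rfl⟩ := QuotientGroup.mk_surjective q
    rw [hψ]
    exact hθ k
  have hcard : Nat.card (RC K) = Nat.card (RC (K ⧸ N)) :=
    (Chars.card_real_irr (G := K)).symm.trans (hcardirr.trans (Chars.card_real_irr (G := K ⧸ N)))
  have hwd : ∀ C : RC K, ∀ g : K ⧸ N, ConjClasses.mk g = ConjClasses.map f C.1 → IsConj g g⁻¹ := by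
    intro C g hg
    obtain ⟨k, hk⟩ := ConjClasses.exists_rep C.1
    rw [← hk] at hg
    have h1 : IsConj g (f k) := ConjClasses.mk_eq_mk_iff_isConj.mp hg
    obtain ⟨c, hc⟩ := isConj_iff.mp h1.symm
    have h2 : IsConj (f k) (f k)⁻¹ := by
      rw [← map_inv]
      exact f.map_isConj (C.2 k hk)
    refine h1.trans (h2.trans (isConj_iff.mpr ⟨c, ?_⟩))
    rw [← hc]; group
  let F : RC K → RC (K ⧸ N) := fun C => ⟨ConjClasses.map f C.1, hwd C⟩
  have hsurj : Function.Surjective F := by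
    rintro ⟨D, hD⟩
    obtain ⟨x, rfl⟩ := ConjClasses.exists_rep D
    obtain ⟨y, hy, hyr⟩ := exists_real_lift f (QuotientGroup.mk'_surjective N)
      (by rw [QuotientGroup.ker_mk']; exact hodd) x (hD x rfl)
    refine ⟨⟨ConjClasses.mk y, fun g hg => ?_⟩, Subtype.ext ?_⟩
    · have h1 : IsConj g y := ConjClasses.mk_eq_mk_iff_isConj.mp hg
      obtain ⟨c, hc⟩ := isConj_iff.mp h1.symm
      exact h1.trans (hyr.trans (isConj_iff.mpr ⟨c, by rw [← hc]; group⟩))
    · show ConjClasses.mk (f y) = ConjClasses.mk x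
      rw [hy]
  have hinj : Function.Injective F :=
    ((Nat.bijective_iff_surjective_and_card F).mpr ⟨hsurj, hcard⟩).1
  have hre : ∀ b : K, IsConj b b⁻¹ → ∀ g : K, ConjClasses.mk g = ConjClasses.mk b → IsConj g g⁻¹ :=
    fun b hb g hg => by
    have h1 : IsConj g b := ConjClasses.mk_eq_mk_iff_isConj.mp hg
    obtain ⟨c, hc⟩ := isConj_iff.mp h1.symm
    exact h1.trans (hb.trans (isConj_iff.mpr ⟨c, by rw [← hc]; group⟩))
  have h := @hinj ⟨ConjClasses.mk a, hre a ha⟩ ⟨ConjClasses.mk 1, hre 1 (by rw [inv_one])⟩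
    (Subtype.ext (by
      show ConjClasses.mk (f a) = ConjClasses.mk (f 1)
      rw [map_one, show f a = 1 from (QuotientGroup.eq_one_iff a).mpr haN]))
  exact isConj_one_left.mp (ConjClasses.mk_eq_mk_iff_isConj.mp (Subtype.ext_iff.mp h))

/-- A normal subgroup of the 2-residual in the derived group of a Sylow subgroup is central. -/
theorem le_centralizer (hp2 : p ≠ 2) (hr : RealDeg p G) (P : Sylow p G) (M : Subgroup G)
    [hM : M.Normal] (hMK : M ≤ pElems 2 G) (hMP : M ≤ ⁅(P : Subgroup G), (P : Subgroup G)⁆) :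
    pElems 2 G ≤ Subgroup.centralizer (M : Set G) := by
  classical
  cases nonempty_fintype G
  have := pElems_normal 2 G
  set K := pElems 2 G with hK
  have := Fintype.ofFinite K
  set N := M.subgroupOf K with hN
  have hodd : Odd (Nat.card N) := by
    rw [hN, Nat.card_congr (Subgroup.subgroupOfEquivOfLe hMK).toEquiv]
    obtain ⟨a, ha⟩ := IsPGroup.iff_card.mp
      (P.2.to_le (hMP.trans (Subgroup.commutator_le_self _)))
    rw [ha]
    exact (hp.out.odd_of_ne_two hp2).pow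
  have hker : ∀ θ : IrrCharacter K, (∀ k, ((θ : K → ℂ) k).im = 0) →
      ∀ x ∈ N, (θ : K → ℂ) x = (θ : K → ℂ) 1 := by
    intro θ hθ x hx
    obtain ⟨χ, hχ⟩ := CharSums.exists_real_over K odd_index_pElems_two ⟨θ, hθ⟩
    have hk := le_ker_of_le_commutator P.2 M hMP χ.1 (hr χ.1 χ.2)
    exact Coherence.constituent_kernel χ.1 θ hχ x (hk _ hx)
  have hreal : ∀ a : G, a ∈ M → ∀ s ∈ K, s * a * s⁻¹ = a⁻¹ → a = 1 := by
    intro a ha s hs he
    have := eq_one_of_real_of_le_ker N hodd hker (a := ⟨a, hMK ha⟩) ha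
      (isConj_iff.mpr ⟨⟨s, hs⟩, Subtype.ext he⟩)
    exact congrArg Subtype.val this
  have hfix : ∀ (k : ℕ) (s : G), s ∈ K → s ^ 2 ^ k = 1 → ∀ m ∈ M, s * m * s⁻¹ = m := by
    intro k
    induction k with
    | zero => intro s _ hs m _; rw [pow_zero, pow_one] at hs; simp [hs]
    | succ k ih =>
      intro s hsK hs m hm
      have h2 : s * (s * m * s⁻¹) * s⁻¹ = m := by
        have := ih (s ^ 2) (pow_mem hsK 2) (by rw [← pow_mul, ← pow_succ']; exact hs) m hm
        simpa [pow_two, mul_assoc] using this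
      have h3 := hreal (s * m * s⁻¹ * m⁻¹) (mul_mem (hM.conj_mem m hm s) (inv_mem hm)) s hsK (by
        calc s * (s * m * s⁻¹ * m⁻¹) * s⁻¹ = s * (s * m * s⁻¹) * s⁻¹ * (s * m⁻¹ * s⁻¹) := by group
          _ = _ := by rw [h2]; group)
      exact mul_inv_eq_one.mp h3
  rw [hK, Subgroup.closure_le]
  rintro t ⟨k, hk⟩
  refine Subgroup.mem_centralizer_iff.mpr fun m hm => ?_
  have := hfix k t (Subgroup.subset_closure ⟨k, hk⟩) (hk ▸ pow_orderOf_eq_one t) m hm
  exact (mul_inv_eq_iff_eq_mul.mp this).symm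

end Cfsg.Agent.Lib.RealPrimeDeg
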