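import Mathlib
import Cfsg.Agent.Lib.CharSums.OddIndex
import Cfsg.Agent.Lib.CharExt.Characters
import Cfsg.Agent.Lib.Clifford.Gallagher
import Cfsg.Agent.Lib.Clifford.Correspondence
import Cfsg.Agent.Lib.OddRealMcKay.Basic
import Cfsg.Agent.Lib.Glauberman.Defs

/-!
# Real characters over an odd index normal subgroup: extension and degrees
-/

set_option autoImplicit false

namespace Cfsg.Agent.Lib.RealPrimeDeg

open scoped ComplexConjugate
open Cfsg Cfsg.Agent.Lib

universe u

variable {G : Type u} [Group G] [Finite G]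

open Representation in
/-- An invariant bilinear form of a self-dual irreducible representation gives the exponent two. -/
theorem two_mem_splitExponents (N : Subgroup G) [N.Normal] {n : ℕ}
    (σ : Representation ℂ N (Fin n → ℂ)) [IsIrreducible σ]
    (hreal : ∀ x, conj (σ.character x) = σ.character x) :
    (2 : ℤ) ∈ CharExt.splitExponents N σ := by
  classical
  have := CharExt.nontrivial_of_isIrreducible σ
  obtain ⟨J⟩ := CharExt.nonempty_equiv_of_char_eq σ σ.dual (funext fun x => by
    rw [Representation.char_dual, Chars.char_inv, hreal])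
  have hJ : ∀ (x : N) (v w : Fin n → ℂ), J.toLinearEquiv (σ x v) (σ x w) = J.toLinearEquiv v w := by
    intro x v w
    have h := LinearMap.congr_fun (J.isIntertwining' x) v
    have h2 : J.toLinearEquiv (σ x v) = σ.dual x (J.toLinearEquiv v) := h
    rw [h2, Representation.dual_apply, Module.Dual.transpose_apply]
    show J.toLinearEquiv v ((σ x⁻¹) (σ x w)) = _
    rw [← Module.End.mul_apply, ← map_mul, inv_mul_cancel, map_one, Module.End.one_apply]
  have key : ∀ e : CharExt.intertwinerGroup N σ, ∃ s : ℂˣ, ∀ v w,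
      J.toLinearEquiv ((CharExt.projT N σ e : Module.End ℂ (Fin n → ℂ)) v)
        ((CharExt.projT N σ e : Module.End ℂ (Fin n → ℂ)) w) =
      (s : ℂ) * J.toLinearEquiv v w := by
    intro e
    let T : (Module.End ℂ (Fin n → ℂ))ˣ := CharExt.projT N σ e
    let T' : (Fin n → ℂ) ≃ₗ[ℂ] (Fin n → ℂ) :=
      (LinearMap.GeneralLinearGroup.generalLinearEquiv ℂ (Fin n → ℂ)) T
    have hT' : ∀ v, T' v = (T : Module.End ℂ (Fin n → ℂ)) v := fun v => rfl
    let L : (Fin n → ℂ) ≃ₗ[ℂ] (Fin n → ℂ) :=
      (T'.trans (J.toLinearEquiv.trans T'.dualMap)).trans J.toLinearEquiv.symm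
    have hL : ∀ v w, J.toLinearEquiv (L v) w = J.toLinearEquiv (T' v) (T' w) := by
      intro v w
      simp only [L, LinearEquiv.trans_apply, LinearEquiv.apply_symm_apply,
        LinearEquiv.dualMap_apply]
    let U : (Module.End ℂ (Fin n → ℂ))ˣ :=
      (LinearMap.GeneralLinearGroup.generalLinearEquiv ℂ (Fin n → ℂ)).symm L
    have hU : ∀ v, (U : Module.End ℂ (Fin n → ℂ)) v = L v := fun v => rfl
    obtain ⟨c, hc⟩ := CharExt.exists_scalar_of_commute σ U fun x => by
      refine LinearMap.ext fun v => J.toLinearEquiv.injective (LinearMap.ext fun w => ?_)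
      rw [Module.End.mul_apply, Module.End.mul_apply, hU, hU]
      have hconj : ∀ u, T' (σ x u) = σ (MulAut.conjNormal (CharExt.projG N σ e) x) (T' u) := by
        intro u
        rw [hT', hT']
        have h3 := LinearMap.congr_fun (e.2 x) u
        exact h3
      have hsplit : w = σ x (σ x⁻¹ w) := by
        rw [← Module.End.mul_apply, ← map_mul, mul_inv_cancel, map_one, Module.End.one_apply]
      rw [hL, hsplit, hconj, hconj, hJ, hJ, hL]
    refine ⟨c, fun v w => ?_⟩
    rw [← hT', ← hT', ← hL, ← hU, hc]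
    show J.toLinearEquiv ((algebraMap ℂ (Module.End ℂ (Fin n → ℂ)) (c : ℂ)) v) w = _
    rw [Module.algebraMap_end_apply, map_smul, LinearMap.smul_apply, smul_eq_mul]
  choose s hs using key
  obtain ⟨v₀, hv₀⟩ := exists_ne (0 : Fin n → ℂ)
  obtain ⟨w₀, hw₀⟩ : ∃ w, J.toLinearEquiv v₀ w ≠ 0 := by
    by_contra h
    push Not at h
    exact hv₀ (J.toLinearEquiv.injective (by rw [map_zero]; exact LinearMap.ext h))
  have huniq : ∀ (a b : ℂ), (∀ v w, a * J.toLinearEquiv v w = b * J.toLinearEquiv v w) → a = b :=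
    fun a b h => mul_right_cancel₀ hw₀ (h v₀ w₀)
  refine ⟨MonoidHom.mk' s fun a b => ?_, fun x => ?_, fun c => ?_⟩
  · refine Units.ext (huniq _ _ fun v w => ?_)
    rw [← hs (a * b), map_mul, Units.val_mul, Module.End.mul_apply, Module.End.mul_apply, hs a,
      hs b, Units.val_mul, mul_assoc]
  · refine Units.ext (huniq _ _ fun v w => ?_)
    show (s (CharExt.inclN N σ x) : ℂ) * _ = ((1 : ℂˣ) : ℂ) * _
    rw [← hs, Units.val_one, one_mul]
    exact hJ x v w
  · refine Units.ext (huniq _ _ fun v w => ?_)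
    show (s (CharExt.inclScalar N σ c) : ℂ) * _ = _
    rw [← hs]
    show J.toLinearEquiv ((algebraMap ℂ (Module.End ℂ (Fin n → ℂ)) (c : ℂ)) v)
      ((algebraMap ℂ (Module.End ℂ (Fin n → ℂ)) (c : ℂ)) w) = _
    rw [Module.algebraMap_end_apply, Module.algebraMap_end_apply, map_smul, map_smul,
      LinearMap.smul_apply, smul_eq_mul, smul_eq_mul, zpow_ofNat, Units.val_pow_eq_pow_val]
    ring

/-- An invariant real irreducible character of a normal subgroup of odd index extends to a real
character. -/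
theorem exists_real_extension (N : Subgroup G) [hN : N.Normal] (hodd : Odd N.index)
    (θ : IrrCharacter N) (hreal : ∀ x, ((θ : N → ℂ) x).im = 0)
    (hinv : ∀ g : G, Clifford.conjFun g (θ : N → ℂ) = θ) :
    ∃ χ : IrrCharacter G, (∀ g, ((χ : G → ℂ) g).im = 0) ∧
      ∀ x : N, (χ : G → ℂ) x = (θ : N → ℂ) x := by
  classical
  cases nonempty_fintype G
  have := Fintype.ofFinite N
  obtain ⟨n, σ, hσ, hσθ⟩ := θ.2
  have := hσ
  have hre : ∀ x, conj ((θ : N → ℂ) x) = (θ : N → ℂ) x := fun x =>
    Complex.conj_eq_iff_im.mpr (hreal x)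
  have hsurj := CharExt.projG_surjective_of_char_invariant N σ (θ : N → ℂ) hσθ
    fun g x => congrFun (hinv g) x
  have hone : (1 : ℤ) ∈ CharExt.splitExponents N σ := by
    obtain ⟨k, hk⟩ := hodd
    have h1 := CharExt.index_mem_splitExponents N σ hsurj N le_rfl σ fun _ => rfl
    have h2 := two_mem_splitExponents N σ (by rw [hσθ]; exact hre)
    have h3 := sub_mem h1 ((CharExt.splitExponents N σ).zsmul_mem h2 (k : ℤ))
    have e : ((N.index : ℤ) - (k : ℤ) • (2 : ℤ)) = 1 := by rw [hk, smul_eq_mul]; push_cast; ring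
    rwa [e] at h3
  obtain ⟨χ, hχ, hext⟩ := CharExt.exists_irrCharacter_of_extension N σ (θ : N → ℂ) hσθ
    (CharExt.exists_extension_of_one_mem N σ hsurj hone)
  let χc : IrrCharacter G := Chars.irrConj ⟨χ, hχ⟩
  have hresθ : Clifford.resFun N χ = (θ : N → ℂ) := funext hext
  have hresc : Clifford.resFun N (χc : G → ℂ) = (θ : N → ℂ) := funext fun x => by
    show conj (χ x) = _
    rw [hext, hre]
  obtain ⟨β, hβ⟩ := ((Clifford.gallagher hχ (hresθ ▸ θ.2)).2.2 _ χc.2).mp (by
    rw [hresc, hresθ, Chars.classInner_irr_self]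
    exact one_ne_zero)
  have hβ1 : (β : G ⧸ N → ℂ) 1 = 1 := by
    have e := congrFun hβ 1
    have h1 : (χc : G → ℂ) 1 = χ 1 := by
      have h2 := congrFun hresc 1
      have h3 := congrFun hresθ 1
      simp only [Clifford.resFun, OneMemClass.coe_one] at h2 h3
      rw [h2, h3]
    rw [h1, Pi.mul_apply] at e
    have h4 : (Chars.inflate N β : G → ℂ) 1 = (β : G ⧸ N → ℂ) 1 := rfl
    rw [h4] at e
    exact (mul_left_cancel₀ (Chars.irr_apply_one_ne_zero ⟨χ, hχ⟩)
      ((mul_one _).trans e)).symm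
  obtain ⟨l₀, hl₀⟩ := Chars.exists_hom_of_degree_one (Chars.irr_isCharacter β) hβ1
  let l : G →* ℂˣ := l₀.comp (QuotientGroup.mk' N)
  obtain ⟨k, hk⟩ := hodd
  have hlone : ∀ g : G, l g ^ N.index = 1 := fun g => by
    rw [← map_pow]
    show l₀ (QuotientGroup.mk' N (g ^ N.index)) = 1
    rw [show QuotientGroup.mk' N (g ^ N.index) = 1 from
      (QuotientGroup.eq_one_iff _).mpr (N.pow_index_mem g), map_one]
  let μ : G →* ℂˣ := l ^ (k + 1)
  refine ⟨⟨_, Chars.isIrrCharacter_hom_mul μ hχ⟩, fun g => ?_, fun x => ?_⟩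
  · rw [← Complex.conj_eq_iff_im]
    show conj ((μ g : ℂ) * χ g) = (μ g : ℂ) * χ g
    have hc : conj (χ g) = χ g * (l g : ℂ) := by
      have e := congrFun hβ g
      have h4 : (Chars.inflate N β : G → ℂ) g = (l g : ℂ) := congrFun hl₀ _
      rw [Pi.mul_apply, h4] at e
      exact e
    rw [map_mul, hc, ← Complex.inv_eq_conj (Chars.norm_hom_apply μ g)]
    have hμ2 : μ g * μ g = l g := by
      show (l ^ (k + 1)) g * (l ^ (k + 1)) g = l g
      rw [MonoidHom.pow_apply, ← pow_add, show k + 1 + (k + 1) = N.index + 1 by omega, pow_succ,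
        hlone, one_mul]
    rw [← hμ2, Units.val_mul]
    have hne := (μ g).ne_zero
    field_simp
  · show (μ (x : G) : ℂ) * χ x = _
    rw [hext]
    have : μ (x : G) = 1 := by
      show (l ^ (k + 1)) (x : G) = 1
      rw [MonoidHom.pow_apply]
      show l₀ (QuotientGroup.mk' N (x : G)) ^ (k + 1) = 1
      rw [show QuotientGroup.mk' N (x : G) = 1 from (QuotientGroup.eq_one_iff _).mpr x.2,
        map_one, one_pow]
    rw [this, Units.val_one, one_mul]

/-- The inertia group of a character. -/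
def stabIrr (N : Subgroup G) [N.Normal] (θ : N → ℂ) : Subgroup G where
  carrier := {g | Clifford.conjFun g θ = θ}
  one_mem' := Clifford.conjFun_one θ
  mul_mem' {a b} ha hb := by
    show Clifford.conjFun (a * b) θ = θ
    rw [Clifford.conjFun_mul, ha, hb]
  inv_mem' {a} ha := by
    show Clifford.conjFun a⁻¹ θ = θ
    conv_lhs => rw [← (ha : Clifford.conjFun a θ = θ), ← Clifford.conjFun_mul, mul_inv_cancel,
      Clifford.conjFun_one]

omit [Finite G] in
theorem mem_stabIrr {N : Subgroup G} [N.Normal] {θ : N → ℂ} {g : G} :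
    g ∈ stabIrr N θ ↔ Glauberman.IsConjBy g θ θ := by
  constructor
  · intro h n n' hn
    have := congrFun (h : Clifford.conjFun g θ = θ) n
    rw [← this]
    exact congrArg θ (Subtype.ext hn)
  · intro h
    exact funext fun n => h n _ rfl

omit [Finite G] in
theorem le_stabIrr {N : Subgroup G} [N.Normal] {θ : N → ℂ} (hθ : IsClassFunction N θ) :
    N ≤ stabIrr N θ := fun g hg => funext fun n => hθ n ⟨g, hg⟩

/-- The real character over a real character of an odd index normal subgroup has degree the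
index of the inertia group times the degree below. -/
theorem apply_one_of_real_over [Fintype G] (K : Subgroup G) [K.Normal] [Fintype K]
    (hodd : Odd K.index) (θ : CharSums.RealIrr ↥K) (χ : CharSums.RealIrr G)
    (h : classInner (fun n : K => (χ.1 : G → ℂ) n) (θ.1 : K → ℂ) ≠ 0) :
    (χ.1 : G → ℂ) 1 = ((stabIrr K (θ.1 : K → ℂ)).index : ℂ) * (θ.1 : K → ℂ) 1 := by
  classical
  set T := stabIrr K (θ.1 : K → ℂ) with hTdef
  have hKT : K ≤ T := le_stabIrr (Chars.irr_isClassFunction θ.1)
  have := Fintype.ofFinite T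
  have := Fintype.ofFinite (K.subgroupOf T)
  let e : K.subgroupOf T ≃* K := Subgroup.subgroupOfEquivOfLe hKT
  let θ' : IrrCharacter (K.subgroupOf T) :=
    ⟨fun x => (θ.1 : K → ℂ) (e x), Clifford.isIrrCharacter_comp_equiv e θ.1.2⟩
  have hoddT : Odd (K.subgroupOf T).index :=
    hodd.of_dvd_nat (Subgroup.relIndex_dvd_index_of_le hKT)
  obtain ⟨ψ, hψr, hψ⟩ := exists_real_extension (K.subgroupOf T) hoddT θ' (fun x => θ.2 _)
    fun t => funext fun x => congrFun (t.2 : Clifford.conjFun (t : G) (θ.1 : K → ℂ) = _) (e x)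
  have hres : Clifford.resTo hKT (ψ : T → ℂ) = (θ.1 : K → ℂ) := funext fun k => by
    have := hψ (e.symm k)
    simp only [θ', MulEquiv.apply_symm_apply] at this
    exact this
  have h2 : classInner (Clifford.resTo hKT (ψ : T → ℂ)) (θ.1 : K → ℂ) ≠ 0 := by
    rw [hres, Chars.classInner_irr_self]; exact one_ne_zero
  have hT : ∀ g, g ∈ T ↔ Clifford.conjFun g (θ.1 : K → ℂ) = θ.1 := fun g => Iff.rfl
  have hirr := Clifford.isIrrCharacter_indFun_inertia θ.1.2 hT hKT ψ.2 h2
  have hind : ∀ g, (indFun T (ψ : T → ℂ) g).im = 0 := fun g => by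
    rw [← Complex.conj_eq_iff_im]
    simp only [indFun, map_mul, map_inv₀, map_natCast, map_sum]
    congr 1
    refine Finset.sum_congr rfl fun x _ => ?_
    by_cases hx : x⁻¹ * g * x ∈ T
    · rw [Chars.extendByZero_of_mem _ hx, Complex.conj_eq_iff_im.mpr (hψr _)]
    · rw [Chars.extendByZero_of_not_mem _ hx, map_zero]
  have h1 : classInner (Clifford.resFun T (indFun T (ψ : T → ℂ))) (ψ : T → ℂ) ≠ 0 := by
    rw [show Clifford.resFun T (indFun T (ψ : T → ℂ)) = fun x : T => indFun T (ψ : T → ℂ) x from rfl,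
      ← Chars.classInner_indFun_right T _ _ (Chars.isClassFunction_indFun T _),
      Chars.classInner_irr_self ⟨_, hirr⟩]
    exact one_ne_zero
  have hover := (Clifford.clifford_induced θ.1.2 hT hKT hirr ψ.2 h1 h2).2.1
  obtain ⟨χ₀, -, huniq⟩ := CharSums.existsUnique_real_over K hodd θ
  have e1 : χ = (⟨⟨_, hirr⟩, hind⟩ : CharSums.RealIrr G) :=
    (huniq χ h).trans (huniq ⟨⟨_, hirr⟩, hind⟩ (by
      show classInner (Clifford.resFun K (indFun T (ψ : T → ℂ))) _ ≠ 0
      rw [← hover]; exact h2)).symm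
  rw [e1]
  show indFun T (ψ : T → ℂ) 1 = _
  rw [Chars.indFun_one_eq, ← congrFun hres 1]
  congr 1

/-- Every real character lies over a real character of an odd index normal subgroup. -/
theorem exists_real_below (K : Subgroup G) [K.Normal] [Fintype K] (hodd : Odd K.index)
    (χ : CharSums.RealIrr G) : ∃ θ : CharSums.RealIrr ↥K,
      classInner (fun n : K => (χ.1 : G → ℂ) n) (θ.1 : K → ℂ) ≠ 0 := by
  classical
  let _ := CharSums.realIrrAction K
  choose f hf using CharSums.exists_real_over K hodd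
  let F : MulAction.orbitRel.Quotient G (CharSums.RealIrr ↥K) → CharSums.RealIrr G :=
    fun q => f q.out
  have hFinj : Function.Injective F := by
    intro q₁ q₂ h
    have h1 := hf q₁.out
    rw [show f q₁.out = f q₂.out from h] at h1
    obtain ⟨x, hx⟩ := CharSums.exists_conj_of_common K _ _ h1 (hf q₂.out)
    rw [← Quotient.out_eq q₁, ← Quotient.out_eq q₂]
    refine (Quotient.sound ?_).symm
    exact ⟨x, Subtype.ext hx⟩
  have hFbij : Function.Bijective F :=
    (Nat.bijective_iff_injective_and_card F).mpr ⟨hFinj, (CharSums.card_realIrr K hodd).symm⟩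
  obtain ⟨q, rfl⟩ := hFbij.2 χ
  exact ⟨q.out, hf _⟩

/-- Cosets of an overgroup of a Sylow subgroup, counted modulo `p`. -/
theorem index_congr {p : ℕ} [hp : Fact p.Prime] (P : Sylow p G) (T : Subgroup G)
    (hPT : (P : Subgroup G) ≤ T) :
    (T.index : ZMod p) = ((T.subgroupOf (Subgroup.normalizer ((P : Subgroup G) : Set G))).index : ℕ) := by
  classical
  set N := Subgroup.normalizer ((P : Subgroup G) : Set G) with hNdef
  rw [Subgroup.index, Subgroup.index]
  have hmod := (P.2).card_modEq_card_fixedPoints (G ⧸ T)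
  rw [(ZMod.natCast_eq_natCast_iff _ _ p).mpr hmod]
  congr 1
  have hfix : ∀ n : N, (QuotientGroup.mk (n : G) : G ⧸ T) ∈ MulAction.fixedPoints P (G ⧸ T) := by
    intro n x
    show ((((x : G) * n : G)) : G ⧸ T) = ((n : G) : G ⧸ T)
    rw [QuotientGroup.eq]
    apply hPT
    have h1 := (Subgroup.mem_normalizer_iff.mp (inv_mem n.2) (x⁻¹ : P)).mp (x⁻¹ : P).2
    simpa [mul_assoc] using h1
  let F : N ⧸ T.subgroupOf N → MulAction.fixedPoints P (G ⧸ T) := fun q => Quotient.liftOn' q
    (fun n => (⟨QuotientGroup.mk (n : G), hfix n⟩ : MulAction.fixedPoints P (G ⧸ T)))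
    (fun a b hab => Subtype.ext (QuotientGroup.eq.mpr (by
      have h := QuotientGroup.leftRel_apply.mp hab
      exact h)))
  refine (Nat.card_eq_of_bijective F ⟨?_, ?_⟩).symm
  · rintro ⟨a⟩ ⟨b⟩ hab
    refine Quotient.sound' (QuotientGroup.leftRel_apply.mpr ?_)
    have h4 : ((a : G) : G ⧸ T) = ((b : G) : G ⧸ T) := congrArg Subtype.val hab
    exact (QuotientGroup.eq.mp h4 : _)
  · rintro ⟨q, hq⟩
    obtain ⟨x, rfl⟩ := QuotientGroup.mk_surjective q
    have h2 : ((x⁻¹ • P : Sylow p G) : Subgroup G) ≤ T := by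
      intro y hy
      obtain ⟨z, hz, rfl⟩ := Subgroup.mem_map.mp
        (show y ∈ (P : Subgroup G).map (MulAut.conj x⁻¹).toMonoidHom from hy)
      have h3 : ((z * x : G) : G ⧸ T) = (x : G ⧸ T) := hq ⟨z, hz⟩
      rw [QuotientGroup.eq] at h3
      simpa [mul_assoc] using inv_mem h3
    obtain ⟨t, ht⟩ := MulAction.exists_smul_eq T ((x⁻¹ • P).subtype h2) (P.subtype hPT)
    have hh : ((t : G) * x⁻¹) • P = P := by
      rw [mul_smul]
      exact Sylow.subtype_injective (hP := Subgroup.conj_smul_le_of_le h2 t) (hQ := hPT)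
        ((Sylow.smul_subtype h2 t).symm.trans ht)
    refine ⟨QuotientGroup.mk ⟨x * (t : G)⁻¹, ?_⟩, Subtype.ext ?_⟩
    · have := inv_mem (Sylow.smul_eq_iff_mem_normalizer.mp hh)
      rw [mul_inv_rev, inv_inv] at this
      exact this
    · show ((x * (t : G)⁻¹ : G) : G ⧸ T) = (x : G ⧸ T)
      rw [QuotientGroup.eq]
      simp

end Cfsg.Agent.Lib.RealPrimeDeg
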