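import Mathlib
import Cfsg.Agent.Lib.Glauberman.Bridge
import Cfsg.Agent.Lib.Glauberman.Above
import Cfsg.Agent.Lib.OddRealMcKay.Fibre

/-!
# Clifford correspondence over a linear character, for subgroups of an ambient group
-/

set_option autoImplicit false

namespace Cfsg.Agent.Lib.RealPrimeDeg

open scoped ComplexConjugate
open Cfsg Cfsg.Agent.Lib Cfsg.Agent.Lib.Glauberman

universe u

variable {Γ : Type u} [Group Γ] [Finite Γ] {A H K : Subgroup Γ} [hA : A.Normal]

/-- Lying over a linear character, in multiplicity form. -/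
def Over (h : A ≤ H) (lam : A →* ℂˣ) (θ : H → ℂ) : Prop :=
  charMult (resSub h θ) ((Chars.linIrr lam : IrrCharacter A) : A → ℂ) ≠ 0

omit hA in
theorem over_of_mult (h1 : A ≤ K) (h2 : K ≤ H) {lam : A →* ℂˣ} (θ : IrrCharacter H)
    (δ : IrrCharacter K) (hm : charMult (resSub h2 (θ : H → ℂ)) (δ : K → ℂ) ≠ 0)
    (ho : Over h1 lam (δ : K → ℂ)) : Over (h1.trans h2) lam (θ : H → ℂ) := by
  show charMult _ _ ≠ 0
  rw [charMult_trans h2 h1 (Chars.irr_isCharacter θ) (Chars.linIrr lam)]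
  intro h0
  rcases Nat.mul_eq_zero.mp (Finset.sum_eq_zero_iff.mp h0 δ (Finset.mem_univ _)) with e | e
  · exact hm e
  · exact ho e

omit hA in
theorem exists_mult_over (h1 : A ≤ K) (h2 : K ≤ H) {lam : A →* ℂˣ} (θ : IrrCharacter H)
    (ho : Over (h1.trans h2) lam (θ : H → ℂ)) :
    ∃ δ : IrrCharacter K, charMult (resSub h2 (θ : H → ℂ)) (δ : K → ℂ) ≠ 0 ∧
      Over h1 lam (δ : K → ℂ) := by
  have h : charMult (resSub (h1.trans h2) (θ : H → ℂ))
      ((Chars.linIrr lam : IrrCharacter A) : A → ℂ) ≠ 0 := ho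
  rw [charMult_trans h2 h1 (Chars.irr_isCharacter θ) (Chars.linIrr lam)] at h
  obtain ⟨δ, -, hδ⟩ := Finset.exists_ne_zero_of_sum_ne_zero h
  exact ⟨δ, left_ne_zero_of_mul hδ, right_ne_zero_of_mul hδ⟩

/-- The inertia group in `H`. -/
abbrev inert (H : Subgroup Γ) (lam : A →* ℂˣ) : Subgroup Γ := H ⊓ OddReal.stab lam

omit [Finite Γ] in
theorem le_inert [IsMulCommutative A] (h : A ≤ H) (lam : A →* ℂˣ) : A ≤ inert H lam :=
  le_inf h (OddReal.le_stab lam)

/-- The Clifford correspondence over a linear character. -/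
theorem clifford [IsMulCommutative A] (hAH : A ≤ H) {lam : A →* ℂˣ} (θ : IrrCharacter H)
    (ψ : IrrCharacter ↥(inert H lam))
    (hm : charMult (resSub (inf_le_left : inert H lam ≤ H) (θ : H → ℂ))
      (ψ : ↥(inert H lam) → ℂ) ≠ 0)
    (ho : Over (le_inert hAH lam) lam (ψ : ↥(inert H lam) → ℂ)) :
    charMult (resSub (inf_le_left : inert H lam ≤ H) (θ : H → ℂ))
      (ψ : ↥(inert H lam) → ℂ) = 1 ∧
    (∀ ψ' : IrrCharacter ↥(inert H lam),
      charMult (resSub (inf_le_left : inert H lam ≤ H) (θ : H → ℂ))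
        (ψ' : ↥(inert H lam) → ℂ) ≠ 0 →
      Over (le_inert hAH lam) lam (ψ' : ↥(inert H lam) → ℂ) → ψ' = ψ) ∧
    (θ : H → ℂ) 1 = ((inert H lam).relIndex H : ℂ) * (ψ : ↥(inert H lam) → ℂ) 1 ∧
    ∀ θ' : IrrCharacter H, charMult (resSub (inf_le_left : inert H lam ≤ H) (θ' : H → ℂ))
      (ψ : ↥(inert H lam) → ℂ) ≠ 0 → θ' = θ := by
  classical
  have : Fintype H := Fintype.ofFinite H
  have : (A.subgroupOf H).Normal := inferInstance
  have : Fintype (A.subgroupOf H) := Fintype.ofFinite _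
  have : Fintype A := Fintype.ofFinite A
  have hIH : (inert H lam) ≤ H := inf_le_left
  have : Fintype ((inert H lam).subgroupOf H) := Fintype.ofFinite _
  set lamH := pullSub hAH ((Chars.linIrr lam : IrrCharacter A) : A → ℂ) with hlamH
  have hirrlam : IsIrrCharacter (A.subgroupOf H) lamH := isIrr_pullSub hAH _
  have hT : ∀ g : H, g ∈ (inert H lam).subgroupOf H ↔ Clifford.conjFun g lamH = lamH := by
    intro g
    rw [Subgroup.mem_subgroupOf, Subgroup.mem_inf, and_iff_right g.2, OddReal.mem_stab_iff]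
    constructor
    · intro h
      funext n
      exact congrFun h (Subgroup.subgroupOfEquivOfLe hAH n)
    · intro h
      funext a
      exact congrFun h ((Subgroup.subgroupOfEquivOfLe hAH).symm a)
  have hNT : A.subgroupOf H ≤ (inert H lam).subgroupOf H := fun x hx => le_inert hAH lam hx
  have hpullover : ∀ ψ' : IrrCharacter (inert H lam), Over (le_inert hAH lam) lam (ψ' : ↥(inert H lam) → ℂ) →
      classInner (Clifford.resTo hNT (pullSub hIH (ψ' : ↥(inert H lam) → ℂ))) lamH ≠ 0 := by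
    intro ψ' h'
    have e : classInner (Clifford.resTo hNT (pullSub hIH (ψ' : ↥(inert H lam) → ℂ))) lamH =
        (charMult (resSub (le_inert hAH lam) (ψ' : ↥(inert H lam) → ℂ))
          ((Chars.linIrr lam : IrrCharacter A) : A → ℂ) : ℂ) := by
      rw [← charMult_spec (isCharacter_resSub _ (Chars.irr_isCharacter ψ'))
        (Chars.irr_isCharacter (Chars.linIrr lam)),
        ← Clifford.classInner_comp_equiv (Subgroup.subgroupOfEquivOfLe hAH)]
      rfl
    rw [e, Nat.cast_ne_zero]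
    exact h'
  have hmult : ∀ (θ' : IrrCharacter H) (ψ' : IrrCharacter (inert H lam)),
      classInner (Clifford.resFun ((inert H lam).subgroupOf H) (θ' : H → ℂ)) (pullSub hIH (ψ' : ↥(inert H lam) → ℂ)) =
        (charMult (resSub hIH (θ' : H → ℂ)) (ψ' : ↥(inert H lam) → ℂ) : ℂ) := fun θ' ψ' =>
    classInner_pullSub hIH (Chars.irr_isCharacter θ') ψ'
  have key := fun (θ' : IrrCharacter H) (h : charMult (resSub hIH (θ' : H → ℂ)) (ψ : ↥(inert H lam) → ℂ) ≠ 0) =>
    Clifford.clifford_induced hirrlam hT hNT θ'.2 (isIrr_pullSub hIH ψ)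
      (by rw [hmult]; exact_mod_cast h) (hpullover ψ ho)
  obtain ⟨hind, -, hone, huniq⟩ := key θ hm
  refine ⟨?_, fun ψ' h' ho' => ?_, ?_, fun θ' h' => ?_⟩
  · rw [hmult] at hone
    exact_mod_cast hone
  · have h2 := huniq _ (isIrr_pullSub hIH ψ') (by rw [hmult]; exact_mod_cast h') (hpullover ψ' ho')
    refine Subtype.ext (funext fun x => ?_)
    have h3 := congrFun h2 ((Subgroup.subgroupOfEquivOfLe hIH).symm x)
    simpa [pullSub] using h3
  · rw [← congrFun hind 1, Chars.indFun_one_eq]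
    congr 1
  · exact Subtype.ext ((key θ' h').1.symm.trans hind)

/-- Multiplicities pass to the inertia groups. -/
theorem mult_eq [IsMulCommutative A] (hAK : A ≤ K) (hKH : K ≤ H) {lam : A →* ℂˣ}
    (θ : IrrCharacter H) (η : IrrCharacter K)
    (ψ : IrrCharacter ↥(inert H lam)) (ψ' : IrrCharacter ↥(inert K lam))
    (hm : charMult (resSub (inf_le_left : inert H lam ≤ H) (θ : H → ℂ))
      (ψ : ↥(inert H lam) → ℂ) ≠ 0)
    (ho : Over (le_inert (hAK.trans hKH) lam) lam (ψ : ↥(inert H lam) → ℂ))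
    (hm' : charMult (resSub (inf_le_left : inert K lam ≤ K) (η : K → ℂ))
      (ψ' : ↥(inert K lam) → ℂ) ≠ 0)
    (ho' : Over (le_inert hAK lam) lam (ψ' : ↥(inert K lam) → ℂ)) :
    charMult (resSub hKH (θ : H → ℂ)) (η : K → ℂ) =
      charMult (resSub (inf_le_inf_right _ hKH : inert K lam ≤ inert H lam)
        (ψ : ↥(inert H lam) → ℂ)) (ψ' : ↥(inert K lam) → ℂ) := by
  classical
  obtain ⟨h1, h2, -, -⟩ := clifford (hAK.trans hKH) θ ψ hm ho
  obtain ⟨h1', -, -, h3'⟩ := clifford hAK η ψ' hm' ho'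
  have e1 := charMult_trans hKH (inf_le_left : inert K lam ≤ K) (Chars.irr_isCharacter θ) ψ'
  have e2 := charMult_trans (inf_le_left : inert H lam ≤ H)
    (inf_le_inf_right _ hKH : inert K lam ≤ inert H lam) (Chars.irr_isCharacter θ) ψ'
  rw [Finset.sum_eq_single η (fun η' _ hne => by
      rw [Nat.mul_eq_zero]
      exact Or.inr (by_contra fun h => hne (h3' η' h))) (by simp), h1', mul_one] at e1
  rw [Finset.sum_eq_single ψ (fun φ _ hne => by
      rw [Nat.mul_eq_zero]
      by_contra h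
      push Not at h
      refine hne (h2 φ h.1 ?_)
      exact over_of_mult (le_inert hAK lam) _ φ ψ' h.2 ho') (by simp), h1, one_mul] at e2
  rw [← e2, ← e1]

section Twist

variable {T T' : Subgroup Γ}

/-- Inflation from `T / A` twisted by a linear character. -/
noncomputable def twistInfl (μ : T →* ℂˣ) (φ : IrrCharacter (T.map (QuotientGroup.mk' A))) :
    IrrCharacter T :=
  ⟨fun t => (φ : T.map (QuotientGroup.mk' A) → ℂ) ((QuotientGroup.mk' A).subgroupMap T t) *
      (μ t : ℂ),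
    isIrr_mul_hom ⟨_, Chars.isIrrCharacter_comp_surjective _
      ((QuotientGroup.mk' A).subgroupMap_surjective T) φ.2⟩ μ⟩

theorem twistInfl_apply (μ : T →* ℂˣ) (φ : IrrCharacter (T.map (QuotientGroup.mk' A))) (t : T) :
    (twistInfl μ φ : T → ℂ) t = (φ : T.map (QuotientGroup.mk' A) → ℂ)
      ((QuotientGroup.mk' A).subgroupMap T t) * (μ t : ℂ) := rfl

theorem twistInfl_injective (μ : T →* ℂˣ) : Function.Injective (twistInfl (A := A) μ) := by
  intro a b h
  refine Subtype.ext (funext fun x => ?_)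
  obtain ⟨t, rfl⟩ := (QuotientGroup.mk' A).subgroupMap_surjective T x
  have := congrFun (congrArg Subtype.val h) t
  exact mul_right_cancel₀ (Units.ne_zero _) this

theorem over_twistInfl (hAT : A ≤ T) {lam : A →* ℂˣ} (μ : T →* ℂˣ)
    (hμ : ∀ a : A, μ ⟨a, hAT a.2⟩ = lam a) (φ : IrrCharacter (T.map (QuotientGroup.mk' A))) :
    Over hAT lam (twistInfl μ φ : T → ℂ) := by
  have : Fintype A := Fintype.ofFinite A
  show charMult _ _ ≠ 0
  have e : resSub hAT (twistInfl μ φ : T → ℂ) = (φ : T.map (QuotientGroup.mk' A) → ℂ) 1 •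
      ((Chars.linIrr lam : IrrCharacter A) : A → ℂ) := by
    funext a
    rw [resSub, twistInfl_apply, hμ, Pi.smul_apply, smul_eq_mul]
    congr 2
    refine congrArg _ ?_
    apply Subtype.ext
    exact (QuotientGroup.eq_one_iff (a : Γ)).mpr a.2
  obtain ⟨d, hd0, hd⟩ := Chars.isIrrCharacter_exists_degree_pos φ.2
  rw [charMult_eq_of (m := d) (by
    rw [e, Chars.classInner_smul_left, Chars.classInner_irr_self, mul_one, hd])]
  omega

theorem exists_twistInfl [IsMulCommutative A] (hAT : A ≤ T) {lam : A →* ℂˣ}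
    (hT : T ≤ OddReal.stab lam) (μ : T →* ℂˣ) (hμ : ∀ a : A, μ ⟨a, hAT a.2⟩ = lam a)
    (ψ : IrrCharacter T) (ho : Over hAT lam (ψ : T → ℂ)) :
    ∃ φ : IrrCharacter (T.map (QuotientGroup.mk' A)), twistInfl μ φ = ψ := by
  have h : OddReal.OverLin (A.subgroupOf T)
      (lam.comp (Subgroup.subgroupOfEquivOfLe hAT).toMonoidHom) (ψ : T → ℂ) := by
    have := Fintype.ofFinite A
    have := Fintype.ofFinite (A.subgroupOf T)
    rw [OddReal.overLin_iff]
    have e := Nat.cast_ne_zero (R := ℂ).mpr ho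
    rw [← charMult_spec (isCharacter_resSub _ (Chars.irr_isCharacter ψ))
      (Chars.irr_isCharacter (Chars.linIrr lam)),
      ← Clifford.classInner_comp_equiv (Subgroup.subgroupOfEquivOfLe hAT)] at e
    exact e
  have hker := OddReal.eq_smul_of_overLin hAT hT ψ h
  let ψ0 : IrrCharacter T := ⟨_, isIrr_mul_hom ψ μ⁻¹⟩
  obtain ⟨φ, hφ⟩ := OddReal.descend ((QuotientGroup.mk' A).subgroupMap T)
    ((QuotientGroup.mk' A).subgroupMap_surjective T) ψ0 fun x hx => by
      have hxA : (x : Γ) ∈ A := (QuotientGroup.eq_one_iff _).mp (congrArg Subtype.val hx)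
      show (ψ : T → ℂ) x * ((μ⁻¹ x : ℂˣ) : ℂ) = (ψ : T → ℂ) 1 * ((μ⁻¹ 1 : ℂˣ) : ℂ)
      have e : (ψ : T → ℂ) x = (ψ : T → ℂ) 1 * (lam ⟨x, hxA⟩ : ℂ) := hker ⟨x, hxA⟩
      rw [MonoidHom.inv_apply, MonoidHom.inv_apply, map_one, inv_one, Units.val_one, mul_one, e,
        ← hμ ⟨x, hxA⟩, mul_assoc, ← Units.val_mul]
      simp
  refine ⟨φ, Subtype.ext (funext fun t => ?_)⟩
  rw [twistInfl_apply, hφ]
  show (ψ : T → ℂ) t * ((μ⁻¹ t : ℂˣ) : ℂ) * _ = _
  rw [MonoidHom.inv_apply, mul_assoc, ← Units.val_mul, inv_mul_cancel, Units.val_one, mul_one]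

theorem charMult_twistInfl (hT' : T' ≤ T) (μ : T →* ℂˣ)
    (φ : IrrCharacter (T.map (QuotientGroup.mk' A)))
    (φ' : IrrCharacter (T'.map (QuotientGroup.mk' A))) :
    charMult (resSub hT' (twistInfl μ φ : T → ℂ))
        (twistInfl (μ.comp (Subgroup.inclusion hT')) φ' : T' → ℂ) =
      charMult (resSub (Subgroup.map_mono hT') (φ : T.map (QuotientGroup.mk' A) → ℂ))
        (φ' : T'.map (QuotientGroup.mk' A) → ℂ) := by
  have : Fintype T' := Fintype.ofFinite T'
  have : Fintype (T'.map (QuotientGroup.mk' A)) := Fintype.ofFinite _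
  refine charMult_eq_of ?_
  rw [← charMult_spec (isCharacter_resSub _ (Chars.irr_isCharacter φ)) (Chars.irr_isCharacter φ'),
    ← Chars.classInner_comp_of_surjective ((QuotientGroup.mk' A).subgroupMap T')
      ((QuotientGroup.mk' A).subgroupMap_surjective T')]
  unfold classInner
  refine congrArg _ (Finset.sum_congr rfl fun x _ => ?_)
  have hu : ((μ (Subgroup.inclusion hT' x) : ℂˣ) : ℂ) *
      conj ((μ (Subgroup.inclusion hT' x) : ℂˣ) : ℂ) = 1 := by
    rw [Complex.mul_conj', Chars.norm_hom_apply μ]; norm_num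
  show (φ : T.map (QuotientGroup.mk' A) → ℂ) _ * ((μ _ : ℂˣ) : ℂ) *
    conj ((φ' : T'.map (QuotientGroup.mk' A) → ℂ) _ * ((μ _ : ℂˣ) : ℂ)) = _
  rw [map_mul, mul_mul_mul_comm]
  conv_rhs => rw [← mul_one (_ * _)]
  rw [← hu]
  rfl

end Twist

end Cfsg.Agent.Lib.RealPrimeDeg
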