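import Mathlib
import Cfsg.Agent.Lib.RealPrimeDeg.RelClifford
import Cfsg.Agent.Lib.Glauberman.PGroup
import Cfsg.Agent.Lib.Clifford.LinearExtension

/-!
# A correspondence of invariant characters over a normal abelian Sylow subgroup

`A` is a normal abelian subgroup of `Γ` contained in the `p`-group `P`, `K` is normal with
`p ∤ [K : A]`.  The `P`-invariant irreducible characters of `K` correspond to those of
`K ⊓ N(P)`, a character and its correspondent having multiplicity `±1` modulo `p`.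
-/

set_option autoImplicit false

namespace Cfsg.Agent.Lib.RealPrimeDeg

open scoped ComplexConjugate
open Cfsg Cfsg.Agent.Lib Cfsg.Agent.Lib.Glauberman

universe u

variable {Γ : Type u} [Group Γ] [Finite Γ] {p : ℕ} [hp : Fact p.Prime]

/-- The standing hypotheses. -/
structure RelSetting (p : ℕ) (A P K : Subgroup Γ) : Prop where
  AP : A ≤ P
  isP : IsPGroup p P
  AK : A ≤ K
  norm : K.Normal
  cop : ¬ p ∣ A.relIndex K

/-- A subgroup meeting the hypotheses for the lemmas below. -/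
structure Good (A P K H : Subgroup Γ) : Prop where
  AH : A ≤ H
  HK : H ≤ K
  nH : ∀ x ∈ P, Normalises x H

variable {A P K H T : Subgroup Γ} [hA : A.Normal]

omit hA [Finite Γ] in
theorem card_quot_map [A.Normal] (T : Subgroup Γ) :
    Nat.card (T.map (QuotientGroup.mk' A)) = A.relIndex T := by
  let f := (QuotientGroup.mk' A).comp T.subtype
  have h1 : f.range = T.map (QuotientGroup.mk' A) := by
    rw [MonoidHom.range_comp, Subgroup.range_subtype]
  have h2 : f.ker = A.subgroupOf T := by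
    ext x
    rw [MonoidHom.mem_ker, Subgroup.mem_subgroupOf]
    exact QuotientGroup.eq_one_iff _
  rw [← h1, ← Subgroup.index_ker, h2]
  rfl

omit hA in
theorem mem_normalizer_of_conj_mem {k : Γ} (h : ∀ x ∈ P, k * x * k⁻¹ ∈ P) :
    k ∈ Subgroup.normalizer (P : Set Γ) :=
  Subgroup.mem_normalizer_iff.mpr (normalises_of_mem h)

omit hA [Finite Γ] in
theorem normalises_of_normalizer {k : Γ} (h : k ∈ Subgroup.normalizer (P : Set Γ)) :
    Normalises k P := Subgroup.mem_normalizer_iff.mp h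

theorem normalises_normal (γ : Γ) (A : Subgroup Γ) [hA : A.Normal] : Normalises γ A :=
  normalises_of_mem fun g hg => hA.conj_mem g hg γ

omit [Finite Γ] in
theorem isConjBy_cnj (γ : Γ) (lam : A →* ℂˣ) :
    IsConjBy γ ((Chars.linIrr lam : IrrCharacter A) : A → ℂ)
      ((Chars.linIrr (OddReal.cnj γ⁻¹ lam) : IrrCharacter A) : A → ℂ) := by
  intro a a' ha
  show ((OddReal.cnj γ⁻¹ lam a' : ℂˣ) : ℂ) = ((lam a : ℂˣ) : ℂ)
  rw [OddReal.cnj_apply]
  congr 2
  refine Subtype.ext ?_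
  show γ⁻¹ * (a' : Γ) * γ⁻¹⁻¹ = a
  rw [ha]; group

/-- Lying over is transported by conjugation. -/
theorem over_conj {γ : Γ} (hH : Normalises γ H) (h : A ≤ H) {θ θ' : H → ℂ}
    (hθ : IsConjBy γ θ θ') {lam : A →* ℂˣ} (ho : Over h lam θ) :
    Over h (OddReal.cnj γ⁻¹ lam) θ' := by
  show charMult _ _ ≠ 0
  rw [charMult_conjBy hH (normalises_normal γ A) h hθ (isConjBy_cnj γ lam)]
  exact ho

theorem over_fixed {γ : Γ} (hH : Normalises γ H) (h : A ≤ H) {θ θ' : H → ℂ}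
    (hθ : IsConjBy γ θ θ') {lam : A →* ℂˣ} (hγ : γ ∈ OddReal.stab lam) (ho : Over h lam θ) :
    Over h lam θ' := by
  have := over_conj hH h hθ ho
  rwa [OddReal.mem_stab.mp (inv_mem hγ)] at this

variable [IsMulCommutative A]

omit hA in
/-- Constituents on the abelian normal subgroup are linear. -/
theorem exists_over (h : A ≤ H) (θ : IrrCharacter H) :
    ∃ lam : A →* ℂˣ, Over h lam (θ : H → ℂ) := by
  obtain ⟨α, hα⟩ := exists_below h θ
  obtain ⟨lam, hlam⟩ := Chars.exists_hom_of_degree_one (Chars.irr_isCharacter α)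
    (Chars.irr_apply_one_of_comm α)
  refine ⟨lam, ?_⟩
  show charMult _ _ ≠ 0
  have : ((Chars.linIrr lam : IrrCharacter A) : A → ℂ) = (α : A → ℂ) := hlam.symm
  rwa [this]

omit [IsMulCommutative A] in
/-- Two linear constituents are conjugate. -/
theorem exists_cnj_of_over (h : A ≤ H) (θ : IrrCharacter H) {lam mu : A →* ℂˣ}
    (h1 : Over h lam (θ : H → ℂ)) (h2 : Over h mu (θ : H → ℂ)) :
    ∃ g ∈ H, OddReal.cnj g⁻¹ lam = mu := by
  obtain ⟨g, hg, hc⟩ := exists_conj_of_constituent h (fun g _ n hn => hA.conj_mem n hn g) θ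
    (Chars.linIrr lam) (Chars.linIrr mu) h1 h2
  refine ⟨g, hg, ?_⟩
  have := IsConjBy.eq (normalises_normal g A) (isConjBy_cnj g lam) hc
  exact Chars.linIrr_injective (Subtype.ext this)

/-- Over an invariant character lies a fixed linear character. -/
theorem exists_fixed_over (hS : RelSetting p A P K) (hH : Good A P K H) (θ : IrrCharacter H)
    (hθ : IsInv P (θ : H → ℂ)) :
    ∃ lam : A →* ℂˣ, P ≤ OddReal.stab lam ∧ Over hH.AH lam (θ : H → ℂ) := by
  classical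
  obtain ⟨lam₀, hlam₀⟩ := exists_over hH.AH θ
  let S := {lam : A →* ℂˣ // Over hH.AH lam (θ : H → ℂ)}
  let act : MulAction P S :=
    { smul := fun x l => ⟨OddReal.cnj (x : Γ)⁻¹ l.1,
        over_conj (hH.nH x x.2) hH.AH (hθ x x.2) l.2⟩
      one_smul := fun l => Subtype.ext (by
        show OddReal.cnj ((1 : P) : Γ)⁻¹ l.1 = l.1
        rw [Subgroup.coe_one, inv_one, OddReal.cnj_one])
      mul_smul := fun x y l => Subtype.ext (by
        show OddReal.cnj ((x * y : P) : Γ)⁻¹ l.1 = OddReal.cnj (x : Γ)⁻¹ (OddReal.cnj (y : Γ)⁻¹ l.1)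
        rw [Subgroup.coe_mul, mul_inv_rev, OddReal.cnj_mul]) }
  have hcard : ¬ p ∣ Nat.card S := by
    let I := (inert H lam₀).subgroupOf H
    have hclass : ∀ g : H, IsConjBy (g : Γ) (θ : H → ℂ) (θ : H → ℂ) := fun g =>
      isConjBy_self_of_mem (Chars.irr_isClassFunction θ) g.2
    have hnorm : ∀ g : H, Normalises (g : Γ) H := fun g =>
      normalises_of_mem fun a ha => mul_mem (mul_mem g.2 ha) (inv_mem g.2)
    have hwd : ∀ a b : H, a⁻¹ * b ∈ I →
        OddReal.cnj (a : Γ)⁻¹ lam₀ = OddReal.cnj (b : Γ)⁻¹ lam₀ := by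
      intro a b hab
      have h1 : ((a⁻¹ * b : H) : Γ) ∈ OddReal.stab lam₀ := (Subgroup.mem_inf.mp hab).2
      have h2 : ((b⁻¹ * a : H) : Γ) ∈ OddReal.stab lam₀ := by
        have := inv_mem h1
        simpa using this
      rw [show (b : Γ)⁻¹ = ((b⁻¹ * a : H) : Γ) * (a : Γ)⁻¹ by simp, OddReal.cnj_mul,
        OddReal.mem_stab.mp h2]
    let F : H ⧸ I → S := fun q => Quotient.liftOn' q
      (fun g => (⟨OddReal.cnj (g : Γ)⁻¹ lam₀, over_conj (hnorm g) hH.AH (hclass g) hlam₀⟩ : S))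
      (fun a b hab => Subtype.ext (hwd a b (QuotientGroup.leftRel_apply.mp hab)))
    have hbij : Function.Bijective F := by
      refine ⟨?_, ?_⟩
      · rintro ⟨a⟩ ⟨b⟩ hab
        refine Quotient.sound' (QuotientGroup.leftRel_apply.mpr ?_)
        refine Subgroup.mem_inf.mpr ⟨(a⁻¹ * b).2, ?_⟩
        show OddReal.cnj ((a : Γ)⁻¹ * b) lam₀ = lam₀
        rw [OddReal.cnj_mul,
          show OddReal.cnj (a : Γ)⁻¹ lam₀ = OddReal.cnj (b : Γ)⁻¹ lam₀ from congrArg Subtype.val hab,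
          ← OddReal.cnj_mul, inv_mul_cancel, OddReal.cnj_one]
      · rintro ⟨mu, hmu⟩
        obtain ⟨g, hg, hgmu⟩ := exists_cnj_of_over hH.AH θ hlam₀ hmu
        exact ⟨QuotientGroup.mk ⟨g, hg⟩, Subtype.ext hgmu⟩
    rw [← Nat.card_eq_of_bijective F hbij]
    intro hd
    refine hS.cop (hd.trans ?_)
    show (inert H lam₀).relIndex H ∣ A.relIndex K
    exact (Dvd.intro_left (A.relIndex (inert H lam₀))
      (Subgroup.relIndex_mul_relIndex A (inert H lam₀) H (le_inert hH.AH lam₀) inf_le_left)).trans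
      (Dvd.intro (H.relIndex K) (Subgroup.relIndex_mul_relIndex A H K hH.AH hH.HK))
  obtain ⟨l, hl⟩ := hS.isP.nonempty_fixed_point_of_prime_not_dvd_card S hcard
  refine ⟨l.1, fun x hx => ?_, l.2⟩
  rw [OddReal.mem_stab]
  have h1 : OddReal.cnj ((⟨x⁻¹, inv_mem hx⟩ : P) : Γ)⁻¹ l.1 = l.1 :=
    congrArg Subtype.val (hl ⟨x⁻¹, inv_mem hx⟩)
  simpa using h1

omit [Finite Γ] hp hA [IsMulCommutative A] in
theorem cop_relIndex (hS : RelSetting p A P K) {T : Subgroup Γ} (hAT : A ≤ T) (hTK : T ≤ K) :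
    ¬ p ∣ A.relIndex T := fun h =>
  hS.cop (h.trans (Dvd.intro _ (Subgroup.relIndex_mul_relIndex A T K hAT hTK)))

omit [IsMulCommutative A] in
theorem commutator_mem (hS : RelSetting p A P K) {k x : Γ} (hk : k ∈ K)
    (hN : k ∈ Subgroup.normalizer (P : Set Γ)) (hx : x ∈ P) : k * x * k⁻¹ * x⁻¹ ∈ A := by
  have hyP : k * x * k⁻¹ * x⁻¹ ∈ P :=
    mul_mem ((normalises_of_normalizer hN x).mp hx) (inv_mem hx)
  have hyK : k * x * k⁻¹ * x⁻¹ ∈ K := by
    have e : k * x * k⁻¹ * x⁻¹ = k * (x * k⁻¹ * x⁻¹) := by group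
    rw [e]
    exact mul_mem hk (hS.norm.conj_mem _ (inv_mem hk) x)
  set y := k * x * k⁻¹ * x⁻¹
  obtain ⟨a, ha⟩ := hS.isP ⟨y, hyP⟩
  have h1 : y ^ p ^ a = 1 := congrArg Subtype.val ha
  have hmem : (QuotientGroup.mk' A) y ∈ K.map (QuotientGroup.mk' A) :=
    Subgroup.mem_map_of_mem _ hyK
  have h2 := Subgroup.orderOf_dvd_natCard _ hmem
  rw [card_quot_map] at h2
  have h3 : orderOf ((QuotientGroup.mk' A) y) ∣ p ^ a :=
    orderOf_dvd_of_pow_eq_one (by rw [← map_pow, h1, map_one])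
  have hcop : (p ^ a).Coprime (A.relIndex K) :=
    Nat.Coprime.pow_left a (hp.out.coprime_iff_not_dvd.mpr hS.cop)
  exact (QuotientGroup.eq_one_iff y).mp
    (orderOf_eq_one_iff.mp (Nat.eq_one_of_dvd_coprimes hcop h3 h2))

/-- Fixed linear constituents are conjugate by the normalizer. -/
theorem exists_cnj_normalizer (hS : RelSetting p A P K) (hH : Good A P K H) (θ : IrrCharacter H)
    {lam mu : A →* ℂˣ} (hlP : P ≤ OddReal.stab lam) (hmP : P ≤ OddReal.stab mu)
    (h1 : Over hH.AH lam (θ : H → ℂ)) (h2 : Over hH.AH mu (θ : H → ℂ)) :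
    ∃ k ∈ H ⊓ Subgroup.normalizer (P : Set Γ), OddReal.cnj k⁻¹ lam = mu := by
  classical
  let π := QuotientGroup.mk' A
  let Y := {q : Γ ⧸ A // ∃ k ∈ H, π k = q ∧ OddReal.cnj k⁻¹ lam = mu}
  let act : MulAction P Y :=
    { smul := fun x q => ⟨π (x : Γ) * q.1 * (π (x : Γ))⁻¹, by
        obtain ⟨k, hk, e, hc⟩ := q.2
        refine ⟨(x : Γ) * k * (x : Γ)⁻¹, (hH.nH x x.2 k).mp hk, by rw [map_mul, map_mul, map_inv, e], ?_⟩
        rw [show ((x : Γ) * k * (x : Γ)⁻¹)⁻¹ = (x : Γ) * k⁻¹ * (x : Γ)⁻¹ by group, OddReal.cnj_mul,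
          OddReal.cnj_mul, OddReal.mem_stab.mp (hlP x.2), hc,
          OddReal.mem_stab.mp (inv_mem (hmP x.2))]⟩
      one_smul := fun q => Subtype.ext (by
        show π ((1 : P) : Γ) * q.1 * (π ((1 : P) : Γ))⁻¹ = q.1
        simp)
      mul_smul := fun x y q => Subtype.ext (by
        show π ((x * y : P) : Γ) * q.1 * (π ((x * y : P) : Γ))⁻¹ =
          π (x : Γ) * (π (y : Γ) * q.1 * (π (y : Γ))⁻¹) * (π (x : Γ))⁻¹
        rw [Subgroup.coe_mul, map_mul, mul_inv_rev]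
        simp [mul_assoc]) }
  obtain ⟨k₀, hk₀, hc₀⟩ := exists_cnj_of_over hH.AH θ h1 h2
  have hto : ∀ q : Y, (π k₀)⁻¹ * q.1 ∈ (inert H lam).map π := by
    rintro ⟨q, k, hk, rfl, hc⟩
    refine ⟨k₀⁻¹ * k, Subgroup.mem_inf.mpr ⟨mul_mem (inv_mem hk₀) hk, ?_⟩, by rw [map_mul, map_inv]⟩
    rw [OddReal.mem_stab, OddReal.cnj_mul, hc₀, ← hc, ← OddReal.cnj_mul, inv_mul_cancel,
      OddReal.cnj_one]
  have hfrom : ∀ z ∈ (inert H lam).map π, ∃ k ∈ H, π k = π k₀ * z ∧ OddReal.cnj k⁻¹ lam = mu := by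
    rintro _ ⟨i, hi, rfl⟩
    obtain ⟨hiH, his⟩ := Subgroup.mem_inf.mp hi
    refine ⟨k₀ * i, mul_mem hk₀ hiH, by rw [map_mul], ?_⟩
    rw [mul_inv_rev, OddReal.cnj_mul, OddReal.mem_stab.mp (inv_mem his), hc₀]
  have hcard : ¬ p ∣ Nat.card Y := by
    let e : Y ≃ ((inert H lam).map π : Subgroup (Γ ⧸ A)) :=
      { toFun := fun q => ⟨(π k₀)⁻¹ * q.1, hto q⟩
        invFun := fun z => ⟨π k₀ * z.1, hfrom z.1 z.2⟩
        left_inv := fun q => Subtype.ext (mul_inv_cancel_left _ _)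
        right_inv := fun z => Subtype.ext (inv_mul_cancel_left _ _) }
    rw [Nat.card_congr e, card_quot_map]
    exact cop_relIndex hS (le_inert hH.AH lam) (inf_le_left.trans hH.HK)
  obtain ⟨⟨q, k, hk, rfl, hc⟩, hq⟩ := hS.isP.nonempty_fixed_point_of_prime_not_dvd_card Y hcard
  refine ⟨k, ⟨hk, mem_normalizer_of_conj_mem fun x hx => ?_⟩, hc⟩
  have h3 : π x * π k * (π x)⁻¹ = π k := congrArg Subtype.val (hq ⟨x, hx⟩)
  have h4 : π (x⁻¹ * (k * x * k⁻¹)) = 1 := by
    simp only [map_mul, map_inv]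
    rw [mul_inv_eq_iff_eq_mul] at h3
    rw [← h3]
    group
  have h5 : x⁻¹ * (k * x * k⁻¹) ∈ P := hS.AP ((QuotientGroup.eq_one_iff _).mp h4)
  simpa using mul_mem hx h5

omit [Finite Γ] [IsMulCommutative A] in
theorem inert_normalises {lam : A →* ℂˣ} {s : Γ} (hsH : Normalises s H)
    (hs : s ∈ OddReal.stab lam) : Normalises s (inert H lam) := by
  intro g
  simp only [Subgroup.mem_inf]
  refine and_congr (hsH g) ⟨fun h => mul_mem (mul_mem hs h) (inv_mem hs), fun h => ?_⟩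
  have := mul_mem (mul_mem (inv_mem hs) h) hs
  simpa [mul_assoc] using this

/-- Clifford correspondents of invariant characters are invariant. -/
theorem isInv_down (hH : Good A P K H) {lam : A →* ℂˣ} (hlP : P ≤ OddReal.stab lam)
    (θ : IrrCharacter H) (hθ : IsInv P (θ : H → ℂ)) (ψ : IrrCharacter ↥(inert H lam))
    (hm : charMult (resSub (inf_le_left : inert H lam ≤ H) (θ : H → ℂ))
      (ψ : ↥(inert H lam) → ℂ) ≠ 0)
    (ho : Over (le_inert hH.AH lam) lam (ψ : ↥(inert H lam) → ℂ)) :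
    IsInv P (ψ : ↥(inert H lam) → ℂ) := by
  intro s hs
  have hn := inert_normalises (hH.nH s hs) (hlP hs)
  obtain ⟨ψ', hψ'⟩ := exists_isConjBy hn ψ
  have h1 : ψ' = ψ := (clifford hH.AH θ ψ hm ho).2.1 ψ'
    (by rw [charMult_conjBy (hH.nH s hs) hn inf_le_left (hθ s hs) hψ']; exact hm)
    (over_fixed hn _ hψ' (hlP hs) ho)
  exact h1 ▸ hψ'

/-- Clifford inducts invariant characters to invariant ones. -/
theorem isInv_up (hH : Good A P K H) {lam : A →* ℂˣ} (hlP : P ≤ OddReal.stab lam)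
    (θ : IrrCharacter H) (ψ : IrrCharacter ↥(inert H lam))
    (hm : charMult (resSub (inf_le_left : inert H lam ≤ H) (θ : H → ℂ))
      (ψ : ↥(inert H lam) → ℂ) ≠ 0)
    (ho : Over (le_inert hH.AH lam) lam (ψ : ↥(inert H lam) → ℂ))
    (hψ : IsInv P (ψ : ↥(inert H lam) → ℂ)) : IsInv P (θ : H → ℂ) := by
  intro s hs
  obtain ⟨θ', hθ'⟩ := exists_isConjBy (hH.nH s hs) θ
  have hn := inert_normalises (hH.nH s hs) (hlP hs)
  have h1 : θ' = θ := (clifford hH.AH θ ψ hm ho).2.2.2 θ'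
    (by rw [charMult_conjBy (hH.nH s hs) hn inf_le_left hθ' (hψ s hs)]; exact hm)
  exact h1 ▸ hθ'

/-- A fixed linear character extends to an invariant linear character of its inertia group. -/
theorem exists_ext (hS : RelSetting p A P K) {lam : A →* ℂˣ} (hlP : P ≤ OddReal.stab lam) :
    ∃ μ : ↥(inert K lam) →* ℂˣ, (∀ a : A, μ ⟨a, le_inert hS.AK lam a.2⟩ = lam a) ∧
      ∀ s ∈ P, ∀ t t' : ↥(inert K lam), (t' : Γ) = s * t * s⁻¹ → μ t' = μ t := by
  set I := inert K lam with hI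
  have hAI : A ≤ I := le_inert hS.AK lam
  let lam' : A.subgroupOf I →* ℂˣ := lam.comp (Subgroup.subgroupOfEquivOfLe hAI).toMonoidHom
  have hinv : ∀ (g : I) (n : A.subgroupOf I), lam' ⟨g * n * g⁻¹,
      (inferInstance : (A.subgroupOf I).Normal).conj_mem (n : I) n.2 g⟩ = lam' n := fun g n =>
    DFunLike.congr_fun (OddReal.mem_stab.mp g.2.2) (Subgroup.subgroupOfEquivOfLe hAI n)
  have hcop : Nat.Coprime (A.subgroupOf I).index (orderOf lam') := by
    obtain ⟨a, ha⟩ := IsPGroup.iff_card.mp (hS.isP.to_le hS.AP)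
    have h1 : orderOf lam' ∣ p ^ a := orderOf_dvd_of_pow_eq_one (MonoidHom.ext fun x => by
      rw [MonoidHom.pow_apply, MonoidHom.one_apply, ← map_pow,
        show x ^ p ^ a = 1 from ?_, map_one]
      have h2 := pow_card_eq_one' (x := Subgroup.subgroupOfEquivOfLe hAI x)
      rw [ha, ← map_pow, EmbeddingLike.map_eq_one_iff] at h2
      exact h2)
    exact Nat.Coprime.of_dvd_right h1 (Nat.Coprime.pow_right a
      (Nat.coprime_comm.mp (hp.out.coprime_iff_not_dvd.mpr (cop_relIndex hS hAI inf_le_left))))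
  obtain ⟨μ, hμ, hord⟩ := Clifford.exists_linear_extension_coprime lam' hinv hcop
  refine ⟨μ, fun a => hμ ⟨⟨a, hAI a.2⟩, a.2⟩, fun s hs t t' ht => ?_⟩
  have hnK : Normalises s K := normalises_normal (hA := hS.norm) s K
  have hn : Normalises s I := inert_normalises hnK (hlP hs)
  have hext : ∀ n : A.subgroupOf I, (μ.comp (conjEquiv hn).toMonoidHom) n = μ n := by
    intro n
    have h1 : μ (conjEquiv hn n) = lam' ⟨conjEquiv hn n, by
        rw [Subgroup.mem_subgroupOf, conjEquiv_coe]; exact hA.conj_mem _ n.2 s⟩ :=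
      hμ ⟨conjEquiv hn n, by
        rw [Subgroup.mem_subgroupOf, conjEquiv_coe]; exact hA.conj_mem _ n.2 s⟩
    rw [MonoidHom.comp_apply, MulEquiv.coe_toMonoidHom, h1, hμ n]
    exact DFunLike.congr_fun (OddReal.mem_stab.mp (hlP hs))
      (Subgroup.subgroupOfEquivOfLe hAI n)
  have hord' : orderOf (μ.comp (conjEquiv hn).toMonoidHom) ∣ orderOf μ := by
    refine orderOf_dvd_of_pow_eq_one (MonoidHom.ext fun x => ?_)
    rw [MonoidHom.pow_apply, MonoidHom.comp_apply, ← MonoidHom.pow_apply, pow_orderOf_eq_one,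
      MonoidHom.one_apply, MonoidHom.one_apply]
  have heq := Clifford.linear_extension_unique (μ.comp (conjEquiv hn).toMonoidHom) μ hext
    (Nat.Coprime.of_dvd_right (hord ▸ hord') hcop) (hord.symm ▸ hcop)
  have h := DFunLike.congr_fun heq t
  rwa [MonoidHom.comp_apply, MulEquiv.coe_toMonoidHom,
    show conjEquiv hn t = t' from Subtype.ext (by rw [conjEquiv_coe, ht])] at h

omit [IsMulCommutative A] in
/-- Invariance of twisted inflations. -/
theorem isInv_twistInfl {T : Subgroup Γ} (hn : ∀ s ∈ P, Normalises s T) (μ : T →* ℂˣ)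
    (hμ : ∀ s ∈ P, ∀ t t' : T, (t' : Γ) = s * t * s⁻¹ → μ t' = μ t)
    (φ : IrrCharacter (T.map (QuotientGroup.mk' A))) :
    IsInv P (twistInfl μ φ : T → ℂ) ↔
      IsInv (P.map (QuotientGroup.mk' A)) (φ : T.map (QuotientGroup.mk' A) → ℂ) := by
  constructor
  · intro h s' hs' g g' hg
    obtain ⟨s, hs, rfl⟩ := hs'
    obtain ⟨t, rfl⟩ := (QuotientGroup.mk' A).subgroupMap_surjective T g
    have h2 : g' = (QuotientGroup.mk' A).subgroupMap T (conjEquiv (hn s hs) t) := by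
      refine Subtype.ext ?_
      rw [hg]
      show _ = QuotientGroup.mk' A ((conjEquiv (hn s hs) t : T) : Γ)
      rw [conjEquiv_coe, map_mul, map_mul, map_inv]
      rfl
    have h1 := h s hs t (conjEquiv (hn s hs) t) (conjEquiv_coe _ _)
    rw [twistInfl_apply, twistInfl_apply, hμ s hs t _ (conjEquiv_coe _ _), ← h2] at h1
    exact mul_right_cancel₀ (Units.ne_zero _) h1
  · intro h s hs t t' ht
    rw [twistInfl_apply, twistInfl_apply, hμ s hs t t' ht]
    congr 1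
    refine h _ (Subgroup.mem_map_of_mem _ hs) _ _ ?_
    show QuotientGroup.mk' A (t' : Γ) = _
    rw [ht, map_mul, map_mul, map_inv]
    rfl

/-- The Glauberman correspondence over a fixed linear character. -/
theorem local_corr (hS : RelSetting p A P K) {lam : A →* ℂˣ} (hlP : P ≤ OddReal.stab lam)
    (hH' : Good A P K (K ⊓ Subgroup.normalizer (P : Set Γ))) :
    (∀ ψ : IrrCharacter ↥(inert K lam), Over (le_inert hS.AK lam) lam (ψ : ↥(inert K lam) → ℂ) →
      IsInv P (ψ : ↥(inert K lam) → ℂ) →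
      ∃ ψ' : IrrCharacter ↥(inert (K ⊓ Subgroup.normalizer (P : Set Γ)) lam),
        Over (le_inert hH'.AH lam) lam (ψ' : ↥(inert (K ⊓ Subgroup.normalizer (P : Set Γ)) lam) → ℂ) ∧ IsInv P (ψ' : ↥(inert (K ⊓ Subgroup.normalizer (P : Set Γ)) lam) → ℂ) ∧
        (((charMult (resSub (inf_le_inf_right _ inf_le_left) (ψ : ↥(inert K lam) → ℂ))
            (ψ' : ↥(inert (K ⊓ Subgroup.normalizer (P : Set Γ)) lam) → ℂ) : ℕ) : ZMod p) = 1 ∨
          ((charMult (resSub (inf_le_inf_right _ inf_le_left) (ψ : ↥(inert K lam) → ℂ))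
            (ψ' : ↥(inert (K ⊓ Subgroup.normalizer (P : Set Γ)) lam) → ℂ) : ℕ) : ZMod p) = -1) ∧
        ∀ ψ'' : IrrCharacter ↥(inert (K ⊓ Subgroup.normalizer (P : Set Γ)) lam),
          Over (le_inert hH'.AH lam) lam (ψ'' : ↥(inert (K ⊓ Subgroup.normalizer (P : Set Γ)) lam) → ℂ) → ψ'' ≠ ψ' →
          p ∣ charMult (resSub (inf_le_inf_right _ inf_le_left) (ψ : ↥(inert K lam) → ℂ))
            (ψ'' : ↥(inert (K ⊓ Subgroup.normalizer (P : Set Γ)) lam) → ℂ)) ∧
    (∀ ψ' : IrrCharacter ↥(inert (K ⊓ Subgroup.normalizer (P : Set Γ)) lam),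
      Over (le_inert hH'.AH lam) lam (ψ' : ↥(inert (K ⊓ Subgroup.normalizer (P : Set Γ)) lam) → ℂ) →
      ∃ ψ : IrrCharacter ↥(inert K lam), Over (le_inert hS.AK lam) lam (ψ : ↥(inert K lam) → ℂ) ∧
        IsInv P (ψ : ↥(inert K lam) → ℂ) ∧
        ¬ p ∣ charMult (resSub (inf_le_inf_right _ inf_le_left) (ψ : ↥(inert K lam) → ℂ))
          (ψ' : ↥(inert (K ⊓ Subgroup.normalizer (P : Set Γ)) lam) → ℂ) ∧
        ∀ ψ₂ : IrrCharacter ↥(inert K lam),
          Over (le_inert hS.AK lam) lam (ψ₂ : ↥(inert K lam) → ℂ) →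
          IsInv P (ψ₂ : ↥(inert K lam) → ℂ) →
          ¬ p ∣ charMult (resSub (inf_le_inf_right _ inf_le_left) (ψ₂ : ↥(inert K lam) → ℂ))
            (ψ' : ↥(inert (K ⊓ Subgroup.normalizer (P : Set Γ)) lam) → ℂ) → ψ₂ = ψ) := by
  classical
  set π := QuotientGroup.mk' A with hπ
  set I := inert K lam with hI
  set I' := inert (K ⊓ Subgroup.normalizer (P : Set Γ)) lam with hI'
  have hI'I : I' ≤ I := inf_le_inf_right _ inf_le_left
  obtain ⟨μ, hμ, hμP⟩ := exists_ext hS hlP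
  let μ' : I' →* ℂˣ := μ.comp (Subgroup.inclusion hI'I)
  have hμ' : ∀ a : A, μ' ⟨a, le_inert hH'.AH lam a.2⟩ = lam a := hμ
  have hnI : ∀ s ∈ P, Normalises s I := fun s hs =>
    inert_normalises (normalises_normal (hA := hS.norm) s K) (hlP hs)
  have hnI' : ∀ s ∈ P, Normalises s I' := fun s hs =>
    inert_normalises (hH'.nH s hs) (hlP hs)
  have hμ'P : ∀ s ∈ P, ∀ t t' : I', (t' : Γ) = s * t * s⁻¹ → μ' t' = μ' t := fun s hs t t' ht =>
    hμP s hs _ _ ht
  have hSG : ∀ s ∈ P.map π, Normalises s (I.map π) := by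
    rintro _ ⟨s, hs, rfl⟩
    refine normalises_of_mem ?_
    rintro _ ⟨t, ht, rfl⟩
    exact ⟨s * t * s⁻¹, (hnI s hs t).mp ht, by rw [map_mul, map_mul, map_inv]⟩
  have hC : I'.map π = I.map π ⊓ Subgroup.centralizer ((P.map π : Subgroup (Γ ⧸ A)) : Set (Γ ⧸ A)) := by
    refine le_antisymm ?_ ?_
    · rintro _ ⟨k, hk, rfl⟩
      refine Subgroup.mem_inf.mpr ⟨Subgroup.mem_map_of_mem π (hI'I hk),
        Subgroup.mem_centralizer_iff.mpr ?_⟩
      rintro _ ⟨x, hx, rfl⟩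
      have h1 := (QuotientGroup.eq_one_iff _).mpr (commutator_mem hS hk.1.1 hk.1.2 hx)
      have h2 : π k * π x * (π k)⁻¹ * (π x)⁻¹ = 1 := by
        rw [← map_inv, ← map_inv, ← map_mul, ← map_mul, ← map_mul]; exact h1
      exact (commutatorElement_eq_one_iff_commute.mp h2).eq.symm
    · rintro _ ⟨⟨k, hk, rfl⟩, hc⟩
      refine ⟨k, ⟨⟨hk.1, mem_normalizer_of_conj_mem fun x hx => ?_⟩, hk.2⟩, rfl⟩
      have h1 := Subgroup.mem_centralizer_iff.mp hc (π x) (Subgroup.mem_map_of_mem π hx)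
      have h4 : π (x⁻¹ * (k * x * k⁻¹)) = 1 := by
        simp only [map_mul, map_inv]
        rw [← h1]
        group
      have h5 : x⁻¹ * (k * x * k⁻¹) ∈ P := hS.AP ((QuotientGroup.eq_one_iff _).mp h4)
      simpa using mul_mem hx h5
  have hpG : ¬ p ∣ Nat.card (I.map π) := by
    rw [card_quot_map]
    exact cop_relIndex hS (le_inert hS.AK lam) inf_le_left
  obtain ⟨f, hf⟩ := exists_pCorr p (hS.isP.map π) (Subgroup.map_mono hI'I) hSG hpG hC
  have hcent : ∀ φ' : IrrCharacter (I'.map π), IsInv (P.map π) (φ' : I'.map π → ℂ) := by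
    intro φ' s hs g g' hg
    have h1 : (g : Γ ⧸ A) ∈ Subgroup.centralizer ((P.map π : Subgroup (Γ ⧸ A)) : Set (Γ ⧸ A)) :=
      (hC ▸ g.2 : (g : Γ ⧸ A) ∈ I.map π ⊓ _).2
    rw [Subgroup.mem_centralizer_iff.mp h1 s hs, mul_inv_cancel_right] at hg
    rw [Subtype.ext hg]
  have hmult : ∀ (φ : IrrCharacter (I.map π)) (φ' : IrrCharacter (I'.map π)),
      charMult (resSub hI'I (twistInfl μ φ : I → ℂ)) (twistInfl μ' φ' : I' → ℂ) =
        charMult (resSub (Subgroup.map_mono hI'I) (φ : I.map π → ℂ)) (φ' : I'.map π → ℂ) :=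
    fun φ φ' => charMult_twistInfl hI'I μ φ φ'
  refine ⟨fun ψ ho hinv => ?_, fun ψ' ho => ?_⟩
  · obtain ⟨φ, rfl⟩ := exists_twistInfl (le_inert hS.AK lam) inf_le_right μ hμ ψ ho
    obtain ⟨β, rfl⟩ := hf.surj φ ((isInv_twistInfl hnI μ hμP φ).mp hinv)
    refine ⟨twistInfl μ' β, over_twistInfl _ μ' hμ' β, (isInv_twistInfl hnI' μ' hμ'P β).mpr (hcent β),
      ?_, fun ψ'' ho'' hne => ?_⟩
    · show ((charMult (resSub hI'I _) _ : ℕ) : ZMod p) = 1 ∨
        ((charMult (resSub hI'I _) _ : ℕ) : ZMod p) = -1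
      rw [hmult]
      rcases (hf.cong β).1 with e | e
      · refine Or.inl ?_
        have := (ZMod.intCast_eq_intCast_iff _ _ p).mpr e
        simpa using this
      · refine Or.inr ?_
        have := (ZMod.intCast_eq_intCast_iff _ _ p).mpr e
        simpa using this
    · obtain ⟨γ, rfl⟩ := exists_twistInfl (le_inert hH'.AH lam) inf_le_right μ' hμ' ψ'' ho''
      show p ∣ charMult (resSub hI'I _) _
      rw [hmult]
      exact (hf.cong β).2 γ fun h => hne (by rw [h])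
  · obtain ⟨β, rfl⟩ := exists_twistInfl (le_inert hH'.AH lam) inf_le_right μ' hμ' ψ' ho
    refine ⟨twistInfl μ (f β), over_twistInfl _ μ hμ _, (isInv_twistInfl hnI μ hμP _).mpr (hf.inv β),
      ?_, fun ψ₂ ho₂ hinv₂ hnd => ?_⟩
    · show ¬ p ∣ charMult (resSub hI'I _) _
      rw [hmult]
      exact hf.not_dvd β
    · obtain ⟨φ, rfl⟩ := exists_twistInfl (le_inert hS.AK lam) inf_le_right μ hμ ψ₂ ho₂
      obtain ⟨γ, rfl⟩ := hf.surj φ ((isInv_twistInfl hnI μ hμP φ).mp hinv₂)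
      have hnd' : ¬ p ∣ charMult (resSub (Subgroup.map_mono hI'I) (f γ : I.map π → ℂ))
          (β : I'.map π → ℂ) := by
        rw [← hmult]; exact hnd
      rw [hf.eq_of_not_dvd hnd']

end Cfsg.Agent.Lib.RealPrimeDeg
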