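import Mathlib
import Cfsg.Agent.Lib.RealPrimeDeg.Correspondence
import Cfsg.Agent.Lib.Glauberman.Action
import Cfsg.Agent.Lib.OddRealMcKay.Basic

/-!
# The relative correspondence: existence, uniqueness, degrees
-/

set_option autoImplicit false

namespace Cfsg.Agent.Lib.RealPrimeDeg

open scoped ComplexConjugate
open Cfsg Cfsg.Agent.Lib Cfsg.Agent.Lib.Glauberman

universe u

/-- A sum invariant under a `p`-group reduces modulo `p` to its only relevant fixed term. -/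
theorem sum_eq_single_fixed {p : ℕ} [Fact p.Prime] {S X : Type*} [Group S] [Finite S] [Fintype X]
    [MulAction S X] (hS : IsPGroup p S) (f : X → ZMod p) (hf : ∀ (s : S) x, f (s • x) = f x)
    (x₀ : X) (h₀ : x₀ ∈ MulAction.fixedPoints S X)
    (hz : ∀ x ∈ MulAction.fixedPoints S X, x ≠ x₀ → f x = 0) : ∑ x, f x = f x₀ := by
  classical
  let _ : Fintype (MulAction.orbitRel.Quotient S X) := Fintype.ofFinite _
  rw [← (MulAction.selfEquivSigmaOrbits' S X).symm.sum_comp, Fintype.sum_sigma]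
  have horb : ∀ q : MulAction.orbitRel.Quotient S X,
      ∑ y : MulAction.orbitRel.Quotient.orbit q,
        f ((MulAction.selfEquivSigmaOrbits' S X).symm ⟨q, y⟩) =
      (Nat.card (MulAction.orbit S q.out) : ZMod p) * f q.out := by
    intro q
    rw [Finset.sum_congr rfl (g := fun _ => f q.out) (fun y _ => by
      have hy : (y : X) ∈ MulAction.orbit S q.out := by
        exact (Set.ext_iff.mp
          (MulAction.orbitRel.Quotient.orbit_eq_orbit_out q Quotient.out_eq') _).mp y.2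
      obtain ⟨s, hs⟩ := hy
      show f (y : X) = f q.out
      rw [← hs, hf]), Finset.sum_const, Finset.card_univ, nsmul_eq_mul, ← Nat.card_eq_fintype_card]
    congr 3
    rw [MulAction.orbitRel.Quotient.orbit_eq_orbit_out _ Quotient.out_eq']
  rw [Finset.sum_congr rfl fun q _ => horb q, Finset.sum_eq_single (Quotient.mk'' x₀)]
  · obtain ⟨s, hs⟩ : (Quotient.mk'' x₀ : MulAction.orbitRel.Quotient S X).out ∈ MulAction.orbit S x₀ :=
      MulAction.orbitRel_apply.mp (Quotient.exact' (Quotient.out_eq' _))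
    have e : (Quotient.mk'' x₀ : MulAction.orbitRel.Quotient S X).out = x₀ := by
      rw [← hs]; exact h₀ s
    rw [e, MulAction.mem_fixedPoints_iff_card_orbit_eq_one.mp h₀ |> (fun h => (Nat.card_eq_fintype_card).trans h)]
    simp
  · intro q _ hq
    obtain ⟨k, hk⟩ := hS.card_orbit q.out
    rw [hk]
    rcases Nat.eq_zero_or_pos k with rfl | hkpos
    · have hfix : q.out ∈ MulAction.fixedPoints S X :=
        MulAction.mem_fixedPoints_iff_card_orbit_eq_one.mpr
          (by rw [← Nat.card_eq_fintype_card, hk, pow_zero])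
      rw [hz q.out hfix fun e => hq (by rw [← e]; exact (Quotient.out_eq' q).symm), mul_zero]
    · rw [Nat.cast_pow, ZMod.natCast_self, zero_pow hkpos.ne', zero_mul]
  · simp

variable {Γ : Type u} [Group Γ] [Finite Γ] {p : ℕ} [hp : Fact p.Prime]
variable {A P K : Subgroup Γ} [hA : A.Normal] [IsMulCommutative A]

omit hA [IsMulCommutative A] hp [Finite Γ] in
theorem good_top [Finite Γ] (hS : RelSetting p A P K) : Good A P K K :=
  ⟨hS.AK, le_rfl, fun x _ => normalises_normal (hA := hS.norm) x K⟩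

omit hA [IsMulCommutative A] hp in
theorem good_normalizer (hS : RelSetting p A P K) :
    Good A P K (K ⊓ Subgroup.normalizer (P : Set Γ)) := by
  refine ⟨le_inf hS.AK (hS.AP.trans Subgroup.le_normalizer), inf_le_left,
    fun x hx => normalises_of_mem ?_⟩
  rintro g ⟨hg, hgN⟩
  have hxN : x ∈ Subgroup.normalizer (P : Set Γ) := Subgroup.le_normalizer hx
  exact Subgroup.mem_inf.mpr ⟨hS.norm.conj_mem g hg x, mul_mem (mul_mem hxN hgN) (inv_mem hxN)⟩

/-- The correspondent below. -/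
theorem exists_down (hS : RelSetting p A P K) (θ : IrrCharacter K) (hθ : IsInv P (θ : K → ℂ)) :
    ∃ η : IrrCharacter ↥(K ⊓ Subgroup.normalizer (P : Set Γ)),
      IsInv P (η : ↥(K ⊓ Subgroup.normalizer (P : Set Γ)) → ℂ) ∧
      (((charMult (resSub inf_le_left (θ : K → ℂ))
          (η : ↥(K ⊓ Subgroup.normalizer (P : Set Γ)) → ℂ) : ℕ) : ZMod p) = 1 ∨
        ((charMult (resSub inf_le_left (θ : K → ℂ))
          (η : ↥(K ⊓ Subgroup.normalizer (P : Set Γ)) → ℂ) : ℕ) : ZMod p) = -1) ∧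
      ∀ η' : IrrCharacter ↥(K ⊓ Subgroup.normalizer (P : Set Γ)),
        IsInv P (η' : ↥(K ⊓ Subgroup.normalizer (P : Set Γ)) → ℂ) → η' ≠ η →
        p ∣ charMult (resSub inf_le_left (θ : K → ℂ))
          (η' : ↥(K ⊓ Subgroup.normalizer (P : Set Γ)) → ℂ) := by
  classical
  have hG := good_top hS
  have hG' := good_normalizer hS
  obtain ⟨lam, hlP, hover⟩ := exists_fixed_over hS hG θ hθ
  obtain ⟨ψ, hm, ho⟩ := exists_mult_over (le_inert hS.AK lam) inf_le_left θ hover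
  have hψ := isInv_down hG hlP θ hθ ψ hm ho
  obtain ⟨ψ', ho', hψ', hone, hrest⟩ := (local_corr hS hlP hG').1 ψ ho hψ
  obtain ⟨η, hη⟩ := exists_above (inf_le_left :
    inert (K ⊓ Subgroup.normalizer (P : Set Γ)) lam ≤ K ⊓ Subgroup.normalizer (P : Set Γ)) ψ'
  refine ⟨η, isInv_up hG' hlP η ψ' hη ho' hψ', ?_, fun η' hη' hne => ?_⟩
  · rw [mult_eq hG'.AH inf_le_left θ η ψ ψ' hm ho hη ho']
    exact hone
  · by_contra hnd
    have hne0 : charMult (resSub inf_le_left (θ : K → ℂ))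
        (η' : ↥(K ⊓ Subgroup.normalizer (P : Set Γ)) → ℂ) ≠ 0 := fun h => hnd (h ▸ dvd_zero p)
    obtain ⟨mu, hmP, hmu⟩ := exists_fixed_over hS hG' η' hη'
    obtain ⟨k, hk, hkc⟩ := exists_cnj_normalizer hS hG θ hmP hlP
      (over_of_mult hG'.AH inf_le_left θ η' hne0 hmu) hover
    have hlam : Over hG'.AH lam (η' : ↥(K ⊓ Subgroup.normalizer (P : Set Γ)) → ℂ) :=
      hkc ▸ over_conj (normalises_of_mem fun g hg => mul_mem (mul_mem hk hg) (inv_mem hk)) hG'.AH
        (isConjBy_self_of_mem (Chars.irr_isClassFunction η') hk) hmu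
    obtain ⟨ψ'', hm'', ho''⟩ := exists_mult_over (le_inert hG'.AH lam) inf_le_left η' hlam
    rw [mult_eq hG'.AH inf_le_left θ η' ψ ψ'' hm ho hm'' ho''] at hnd
    refine hnd (hrest ψ'' ho'' fun e => hne ?_)
    exact (clifford hG'.AH η ψ' hη ho').2.2.2 η' (e ▸ hm'')

/-- The correspondent above, and its uniqueness. -/
theorem exists_up (hS : RelSetting p A P K)
    (η : IrrCharacter ↥(K ⊓ Subgroup.normalizer (P : Set Γ)))
    (hη : IsInv P (η : ↥(K ⊓ Subgroup.normalizer (P : Set Γ)) → ℂ)) :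
    ∃ θ : IrrCharacter K, IsInv P (θ : K → ℂ) ∧
      ¬ p ∣ charMult (resSub inf_le_left (θ : K → ℂ))
        (η : ↥(K ⊓ Subgroup.normalizer (P : Set Γ)) → ℂ) ∧
      ∀ θ₂ : IrrCharacter K, IsInv P (θ₂ : K → ℂ) →
        ¬ p ∣ charMult (resSub inf_le_left (θ₂ : K → ℂ))
          (η : ↥(K ⊓ Subgroup.normalizer (P : Set Γ)) → ℂ) → θ₂ = θ := by
  classical
  have hG := good_top hS
  have hG' := good_normalizer hS
  obtain ⟨lam, hlP, hover⟩ := exists_fixed_over hS hG' η hη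
  obtain ⟨ψ', hm', ho'⟩ := exists_mult_over (le_inert hG'.AH lam) inf_le_left η hover
  obtain ⟨ψ, ho, hψ, hnd, huniq⟩ := (local_corr hS hlP hG').2 ψ' ho'
  obtain ⟨θ, hθ⟩ := exists_above (inf_le_left : inert K lam ≤ K) ψ
  refine ⟨θ, isInv_up hG hlP θ ψ hθ ho hψ, ?_, fun θ₂ hθ₂ hnd₂ => ?_⟩
  · rw [mult_eq hG'.AH inf_le_left θ η ψ ψ' hθ ho hm' ho']
    exact hnd
  · have hover₂ : Over hS.AK lam (θ₂ : K → ℂ) :=
      over_of_mult hG'.AH inf_le_left θ₂ η (fun h => hnd₂ (h ▸ dvd_zero p)) hover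
    obtain ⟨ψ₂, hm₂, ho₂⟩ := exists_mult_over (le_inert hS.AK lam) inf_le_left θ₂ hover₂
    rw [mult_eq hG'.AH inf_le_left θ₂ η ψ₂ ψ' hm₂ ho₂ hm' ho'] at hnd₂
    have e := huniq ψ₂ ho₂ (isInv_down hG hlP θ₂ hθ₂ ψ₂ hm₂ ho₂) hnd₂
    exact (clifford hS.AK θ ψ hθ ho).2.2.2 θ₂ (e ▸ hm₂)

/-- The two correspondents are corresponding. -/
theorem eq_of_not_dvd_below (hS : RelSetting p A P K) (θ : IrrCharacter K)
    (hθ : IsInv P (θ : K → ℂ)) {η η' : IrrCharacter ↥(K ⊓ Subgroup.normalizer (P : Set Γ))}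
    (hη : IsInv P (η : ↥(K ⊓ Subgroup.normalizer (P : Set Γ)) → ℂ))
    (hη' : IsInv P (η' : ↥(K ⊓ Subgroup.normalizer (P : Set Γ)) → ℂ))
    (h : ¬ p ∣ charMult (resSub inf_le_left (θ : K → ℂ))
        (η : ↥(K ⊓ Subgroup.normalizer (P : Set Γ)) → ℂ))
    (h' : ¬ p ∣ charMult (resSub inf_le_left (θ : K → ℂ))
        (η' : ↥(K ⊓ Subgroup.normalizer (P : Set Γ)) → ℂ)) : η' = η := by
  obtain ⟨η₀, -, -, hrest⟩ := exists_down hS θ hθ
  have e1 : η = η₀ := by_contra fun hne => h (hrest η hη hne)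
  have e2 : η' = η₀ := by_contra fun hne => h' (hrest η' hη' hne)
  rw [e1, e2]

/-- Degrees of correspondents agree up to sign modulo `p`. -/
theorem degree_congr (hS : RelSetting p A P K) (θ : IrrCharacter K) (hθ : IsInv P (θ : K → ℂ))
    (η : IrrCharacter ↥(K ⊓ Subgroup.normalizer (P : Set Γ)))
    (hη : IsInv P (η : ↥(K ⊓ Subgroup.normalizer (P : Set Γ)) → ℂ))
    (h : ¬ p ∣ charMult (resSub inf_le_left (θ : K → ℂ))
        (η : ↥(K ⊓ Subgroup.normalizer (P : Set Γ)) → ℂ)) :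
    ((Cfsg.charDegree (θ : K → ℂ) : ℕ) : ZMod p) =
        (Cfsg.charDegree (η : ↥(K ⊓ Subgroup.normalizer (P : Set Γ)) → ℂ) : ℕ) ∨
      ((Cfsg.charDegree (θ : K → ℂ) : ℕ) : ZMod p) =
        -((Cfsg.charDegree (η : ↥(K ⊓ Subgroup.normalizer (P : Set Γ)) → ℂ) : ℕ) : ZMod p) := by
  classical
  obtain ⟨η₀, hη₀, hone, hrest⟩ := exists_down hS θ hθ
  obtain rfl : η = η₀ := by_contra fun hne => h (hrest η hη hne)
  have hKK : K ⊓ Subgroup.normalizer (P : Set Γ) ≤ K := inf_le_left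
  let ι : P →* normGroup (K ⊓ Subgroup.normalizer (P : Set Γ)) :=
    { toFun := fun x => ⟨x, (good_normalizer hS).nH x x.2⟩
      map_one' := rfl
      map_mul' := fun _ _ => rfl }
  let act : MulAction P (IrrCharacter ↥(K ⊓ Subgroup.normalizer (P : Set Γ))) := MulAction.compHom (IrrCharacter ↥(K ⊓ Subgroup.normalizer (P : Set Γ))) ι
  let f : IrrCharacter ↥(K ⊓ Subgroup.normalizer (P : Set Γ)) → ZMod p := fun x =>
    ((charMult (resSub hKK (θ : K → ℂ)) (x : ↥(K ⊓ Subgroup.normalizer (P : Set Γ)) → ℂ) * Cfsg.charDegree (x : ↥(K ⊓ Subgroup.normalizer (P : Set Γ)) → ℂ) : ℕ) : ZMod p)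
  have hsmul : ∀ (s : P) (x : IrrCharacter ↥(K ⊓ Subgroup.normalizer (P : Set Γ))),
      IsConjBy (s : Γ) (x : ↥(K ⊓ Subgroup.normalizer (P : Set Γ)) → ℂ) ((s • x : IrrCharacter ↥(K ⊓ Subgroup.normalizer (P : Set Γ))) : ↥(K ⊓ Subgroup.normalizer (P : Set Γ)) → ℂ) :=
    fun s x => smul_irr_spec (ι s) x
  have hf : ∀ (s : P) x, f (s • x) = f x := by
    intro s x
    have h1 := charMult_conjBy (normalises_normal (hA := hS.norm) (s : Γ) K)
      ((good_normalizer hS).nH s s.2) hKK (hθ s s.2) (hsmul s x)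
    have h2 : Cfsg.charDegree ((s • x : IrrCharacter ↥(K ⊓ Subgroup.normalizer (P : Set Γ))) : ↥(K ⊓ Subgroup.normalizer (P : Set Γ)) → ℂ) = Cfsg.charDegree (x : ↥(K ⊓ Subgroup.normalizer (P : Set Γ)) → ℂ) :=
      OddReal.charDegree_congr (hsmul s x 1 1 (by simp))
    simp only [f, h1, h2]
  have hfix : ∀ x : IrrCharacter ↥(K ⊓ Subgroup.normalizer (P : Set Γ)), x ∈ MulAction.fixedPoints P (IrrCharacter ↥(K ⊓ Subgroup.normalizer (P : Set Γ))) ↔
      IsInv P (x : ↥(K ⊓ Subgroup.normalizer (P : Set Γ)) → ℂ) := by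
    intro x
    constructor
    · intro hx s hs
      have := hsmul ⟨s, hs⟩ x
      rwa [hx ⟨s, hs⟩] at this
    · intro hx s
      exact smul_irr_eq (ι s) (hx s s.2)
  have hsum := sum_eq_single_fixed hS.isP f hf η ((hfix η).mpr hη) fun x hx hne => by
    show ((_ * _ : ℕ) : ZMod p) = 0
    rw [Nat.cast_mul, (ZMod.natCast_eq_zero_iff _ p).mpr (hrest x ((hfix x).mp hx) hne), zero_mul]
  have hdeg : Cfsg.charDegree (θ : K → ℂ) = ∑ x : IrrCharacter ↥(K ⊓ Subgroup.normalizer (P : Set Γ)),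
      charMult (resSub hKK (θ : K → ℂ)) (x : ↥(K ⊓ Subgroup.normalizer (P : Set Γ)) → ℂ) * Cfsg.charDegree (x : ↥(K ⊓ Subgroup.normalizer (P : Set Γ)) → ℂ) := by
    apply OddReal.charDegree_eq
    have h1 : (θ : K → ℂ) 1 = resSub hKK (θ : K → ℂ) 1 := rfl
    rw [h1]
    conv_lhs => rw [eq_sum_charMult (isCharacter_resSub hKK (Chars.irr_isCharacter θ))]
    simp only [Finset.sum_apply, Pi.smul_apply, smul_eq_mul]
    push_cast
    exact Finset.sum_congr rfl fun x _ => by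
      rw [← OddReal.charDegree_spec (Chars.irr_isCharacter x)]
  rw [hdeg, Nat.cast_sum, show ∑ x : IrrCharacter ↥(K ⊓ Subgroup.normalizer (P : Set Γ)),
    ((charMult (resSub hKK (θ : K → ℂ)) (x : ↥(K ⊓ Subgroup.normalizer (P : Set Γ)) → ℂ) * Cfsg.charDegree (x : ↥(K ⊓ Subgroup.normalizer (P : Set Γ)) → ℂ) : ℕ) : ZMod p) =
      ∑ x, f x from rfl, hsum]
  simp only [f, Nat.cast_mul]
  rcases hone with e | e
  · exact Or.inl (by rw [e, one_mul])
  · exact Or.inr (by rw [e, neg_one_mul])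

omit hA [IsMulCommutative A] in
/-- Complex conjugation preserves multiplicities of restrictions. -/
theorem charMult_irrConj {C H : Subgroup Γ} (hCH : C ≤ H) (χ : IrrCharacter H) (β : IrrCharacter C) :
    charMult (resSub hCH (Chars.irrConj χ : H → ℂ)) (Chars.irrConj β : C → ℂ) =
      charMult (resSub hCH (χ : H → ℂ)) (β : C → ℂ) := by
  classical
  let _ : Fintype C := Fintype.ofFinite C
  refine charMult_eq_of ?_
  have h := charMult_spec (isCharacter_resSub hCH (Chars.irr_isCharacter χ))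
    (Chars.irr_isCharacter β)
  have h1 := congrArg conj h
  rw [Complex.conj_natCast] at h1
  rw [← h1]
  simp [classInner, resSub, Chars.irrConj_apply]

omit [Finite Γ] in
/-- Invariance is preserved by complex conjugation. -/
theorem isInv_irrConj [Finite Γ] {H : Subgroup Γ} {χ : IrrCharacter H} (h : IsInv P (χ : H → ℂ)) :
    IsInv P (Chars.irrConj χ : H → ℂ) := fun s hs g g' hg => by
  simp only [Chars.irrConj_apply, h s hs g g' hg]

end Cfsg.Agent.Lib.RealPrimeDeg
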