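import Mathlib
import Cfsg.Agent.Lib.RealPrimeDeg.Relative
import Cfsg.Agent.Lib.RealPrimeDeg.Extension
import Cfsg.Agent.Lib.RealPrimeDeg.Kernel

/-!
# The bijection of real characters with those of the Sylow normalizer
-/

set_option autoImplicit false

namespace Cfsg.Agent.Lib.RealPrimeDeg

open scoped ComplexConjugate
open Cfsg Cfsg.Agent.Lib Cfsg.Agent.Lib.Glauberman

universe u

variable {G : Type u} [Group G] [Finite G] {p : ℕ} [hp : Fact p.Prime]

/-- The real irreducible characters of degree prime to `p`. -/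
abbrev RealPrime (p : ℕ) (H : Type u) [Group H] : Type u :=
  {ξ : IrrCharacter H // (∀ n, ((ξ : H → ℂ) n).im = 0) ∧ ¬ p ∣ Cfsg.charDegree (ξ : H → ℂ)}

/-- Degrees congruent up to sign. -/
def SignCongr (p : ℕ) (a b : ℕ) : Prop := (a : ZMod p) = (b : ZMod p) ∨ (a : ZMod p) = -(b : ZMod p)

omit [Finite G] in
theorem isConjBy_conjFun {K : Subgroup G} [hK : K.Normal] (g : G) (θ : K → ℂ) :
    IsConjBy g⁻¹ θ (Clifford.conjFun g θ) := fun a a' ha => by
  show θ _ = θ a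
  exact congrArg θ (Subtype.ext (show g * (a' : G) * g⁻¹ = a by rw [ha]; group))

omit [Finite G] in
theorem isInv_iff_le_stabIrr {K P : Subgroup G} [K.Normal] {θ : K → ℂ} :
    IsInv P θ ↔ P ≤ stabIrr K θ :=
  ⟨fun h _ hs => mem_stabIrr.mpr (h _ hs), fun h _ hs => mem_stabIrr.mp (h hs)⟩

/-- An element moving a fixed point to a fixed point can be taken in the normalizer. -/
theorem exists_normalizer_mul (P : Sylow p G) {T : Subgroup G} (hPT : (P : Subgroup G) ≤ T)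
    {g : G} (hg : ∀ x ∈ (P : Subgroup G), g * x * g⁻¹ ∈ T) :
    ∃ t ∈ T, t * g ∈ Subgroup.normalizer ((P : Subgroup G) : Set G) := by
  have h2 : ((g • P : Sylow p G) : Subgroup G) ≤ T := by
    intro y hy
    obtain ⟨z, hz, rfl⟩ := Subgroup.mem_map.mp
      (show y ∈ (P : Subgroup G).map (MulAut.conj g).toMonoidHom from hy)
    exact hg z hz
  obtain ⟨t, ht⟩ := MulAction.exists_smul_eq T ((g • P).subtype h2) (P.subtype hPT)
  refine ⟨t, t.2, Sylow.smul_eq_iff_mem_normalizer.mp ?_⟩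
  rw [mul_smul]
  exact Sylow.subtype_injective (hP := Subgroup.conj_smul_le_of_le h2 t) (hQ := hPT)
    ((Sylow.smul_subtype h2 t).symm.trans ht)

section Main

variable {P : Sylow p G} {K A : Subgroup G} [hK : K.Normal] [Fintype K]
  [hA : A.Normal] [IsMulCommutative A]

omit hA [IsMulCommutative A] in
/-- Below a real character of `p'`-degree lies a real character with a Sylow subgroup in its
inertia group. -/
theorem exists_inv_below (hodd : Odd K.index) (χ : CharSums.RealIrr G)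
    (hd : ¬ p ∣ Cfsg.charDegree (χ.1 : G → ℂ)) :
    ∃ θ : CharSums.RealIrr ↥K, IsInv (P : Subgroup G) (θ.1 : K → ℂ) ∧
      classInner (fun n : K => (χ.1 : G → ℂ) n) (θ.1 : K → ℂ) ≠ 0 := by
  classical
  cases nonempty_fintype G
  obtain ⟨θ, hθ⟩ := exists_real_below K hodd χ
  have hdeg := apply_one_of_real_over K hodd θ χ hθ
  set T := stabIrr K (θ.1 : K → ℂ) with hT
  have hidx : ¬ p ∣ T.index := by
    intro h
    apply hd
    rw [OddReal.charDegree_eq (n := T.index * Cfsg.charDegree (θ.1 : K → ℂ)) (by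
      rw [hdeg, Nat.cast_mul, ← OddReal.charDegree_spec (Chars.irr_isCharacter θ.1)])]
    exact h.mul_right _
  obtain ⟨q, hq⟩ := (P.2).nonempty_fixed_point_of_prime_not_dvd_card (G ⧸ T) hidx
  obtain ⟨x, rfl⟩ := QuotientGroup.mk_surjective q
  refine ⟨⟨⟨_, Clifford.isIrrCharacter_conjFun x⁻¹ θ.1.2⟩, fun k => θ.2 _⟩, ?_, ?_⟩
  · refine isInv_iff_le_stabIrr.mpr fun s hs => ?_
    have h3 : ((s * x : G) : G ⧸ T) = (x : G ⧸ T) := hq ⟨s, hs⟩
    rw [QuotientGroup.eq] at h3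
    have h4 : x⁻¹ * s * x ∈ T := by simpa [mul_assoc] using inv_mem h3
    show Clifford.conjFun s (Clifford.conjFun x⁻¹ (θ.1 : K → ℂ)) = Clifford.conjFun x⁻¹ θ.1
    rw [← Clifford.conjFun_mul, show x⁻¹ * s = (x⁻¹ * s * x) * x⁻¹ by group, Clifford.conjFun_mul,
      (h4 : Clifford.conjFun _ (θ.1 : K → ℂ) = _)]
  · show classInner (Clifford.resFun K (χ.1 : G → ℂ)) _ ≠ 0
    rw [Clifford.classInner_resFun_conjFun (Chars.irr_isClassFunction χ.1)]
    exact hθ

omit hA [IsMulCommutative A] in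
/-- Invariant characters below the same character are conjugate by the normalizer. -/
theorem exists_normalizer_conj (χ : IrrCharacter G) {θ₁ θ₂ : CharSums.RealIrr ↥K}
    (h₁ : classInner (fun n : K => (χ : G → ℂ) n) (θ₁.1 : K → ℂ) ≠ 0)
    (h₂ : classInner (fun n : K => (χ : G → ℂ) n) (θ₂.1 : K → ℂ) ≠ 0)
    (i₁ : IsInv (P : Subgroup G) (θ₁.1 : K → ℂ)) (i₂ : IsInv (P : Subgroup G) (θ₂.1 : K → ℂ)) :
    ∃ n ∈ Subgroup.normalizer ((P : Subgroup G) : Set G),
      (θ₂.1 : K → ℂ) = Clifford.conjFun n (θ₁.1 : K → ℂ) := by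
  cases nonempty_fintype G
  obtain ⟨g, hg⟩ := Clifford.exists_conjFun_eq_of_constituent χ.2 θ₁.1.2 θ₂.1.2 h₁ h₂
  obtain ⟨t, ht, htn⟩ := exists_normalizer_mul P (isInv_iff_le_stabIrr.mp i₁) (g := g) (by
    intro x hx
    show Clifford.conjFun (g * x * g⁻¹) (θ₁.1 : K → ℂ) = θ₁.1
    have h3 : Clifford.conjFun x (θ₂.1 : K → ℂ) = θ₂.1 := isInv_iff_le_stabIrr.mp i₂ hx
    rw [Clifford.conjFun_mul, Clifford.conjFun_mul, hg, h3, ← hg, ← Clifford.conjFun_mul,
      mul_inv_cancel, Clifford.conjFun_one])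
  refine ⟨t * g, htn, ?_⟩
  rw [Clifford.conjFun_mul, (ht : Clifford.conjFun t (θ₁.1 : K → ℂ) = _), hg]

local notation "NP" => Subgroup.normalizer ((P : Subgroup G) : Set G)

/-- The correspondence between invariant characters. -/
def Corr (θ : IrrCharacter K) (η : IrrCharacter ↥(K ⊓ NP)) : Prop :=
  IsInv (P : Subgroup G) (θ : K → ℂ) ∧ IsInv (P : Subgroup G) (η : ↥(K ⊓ NP) → ℂ) ∧
    ¬ p ∣ charMult (resSub inf_le_left (θ : K → ℂ)) (η : ↥(K ⊓ NP) → ℂ)

omit hp hK [Fintype K] in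
theorem corr_irrConj {θ : IrrCharacter K} {η : IrrCharacter ↥(K ⊓ NP)}
    (h : Corr (P := P) θ η) : Corr (P := P) (Chars.irrConj θ) (Chars.irrConj η) :=
  ⟨isInv_irrConj h.1, isInv_irrConj h.2.1, by rw [charMult_irrConj]; exact h.2.2⟩

variable (hS : RelSetting p A (P : Subgroup G) K)
include hS

omit hK [Fintype K] in
theorem real_of_corr_left {θ : IrrCharacter K} {η : IrrCharacter ↥(K ⊓ NP)}
    (h : Corr (P := P) θ η) (hθ : ∀ k, ((θ : K → ℂ) k).im = 0) :
    ∀ k, ((η : ↥(K ⊓ NP) → ℂ) k).im = 0 := by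
  rw [Chars.real_iff_irrConj_eq]
  have h' := corr_irrConj h
  rw [(Chars.real_iff_irrConj_eq θ).mp hθ] at h'
  exact eq_of_not_dvd_below hS θ h.1 h.2.1 h'.2.1 h.2.2 h'.2.2

omit hK [Fintype K] in
theorem real_of_corr_right {θ : IrrCharacter K} {η : IrrCharacter ↥(K ⊓ NP)}
    (h : Corr (P := P) θ η) (hη : ∀ k, ((η : ↥(K ⊓ NP) → ℂ) k).im = 0) :
    ∀ k, ((θ : K → ℂ) k).im = 0 := by
  rw [Chars.real_iff_irrConj_eq]
  have h' := corr_irrConj h
  rw [(Chars.real_iff_irrConj_eq η).mp hη] at h'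
  obtain ⟨θ₀, -, -, hu⟩ := exists_up hS η h.2.1
  rw [hu _ h'.1 h'.2.2, hu _ h.1 h.2.2]

/-- The bijection in the case of an abelian normal Sylow subgroup of the 2-residual. -/
theorem exists_bijection_abelian (hodd : Odd K.index) (hr : RealDeg p G) :
    ∃ f : CharSums.RealIrr G → RealPrime p ↥NP, Function.Bijective f ∧
      ∀ χ, SignCongr p (Cfsg.charDegree ((f χ).1 : ↥NP → ℂ))
        (Cfsg.charDegree (χ.1 : G → ℂ)) := by
  classical
  cases nonempty_fintype G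
  set K' := K ⊓ NP with hK'
  set Kn := K'.subgroupOf NP with hKn
  have hKnK : Kn = K.subgroupOf NP := Subgroup.inf_subgroupOf_right K NP
  have : Kn.Normal := hKnK ▸ (inferInstance : (K.subgroupOf NP).Normal)
  have := Fintype.ofFinite Kn
  have := Fintype.ofFinite ↥NP
  have hoddn : Odd Kn.index := by
    rw [hKnK]
    exact hodd.of_dvd_nat (Subgroup.relIndex_dvd_index_of_normal K NP)
  have hK'N : K' ≤ NP := inf_le_right
  let e : Kn ≃* K' := Subgroup.subgroupOfEquivOfLe hK'N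
  let up : IrrCharacter K' → IrrCharacter Kn := fun η => ⟨_, isIrr_pullSub hK'N η⟩
  let down : IrrCharacter Kn → IrrCharacter K' := fun η' =>
    ⟨fun k => (η' : Kn → ℂ) (e.symm k), Clifford.isIrrCharacter_comp_equiv e.symm η'.2⟩
  have hupdown : ∀ η', up (down η') = η' := fun η' => Subtype.ext (funext fun x => by
    show (η' : Kn → ℂ) (e.symm (e x)) = _
    rw [e.symm_apply_apply])
  have hupinj : Function.Injective up := fun a b h => Subtype.ext (funext fun k => by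
    have := congrFun (congrArg Subtype.val h) (e.symm k)
    simpa [up, pullSub, e] using this)
  -- transport of conjugation by elements of the normalizer
  have hconj : ∀ (n : ↥NP) (η₁ η₂ : IrrCharacter K'),
      IsConjBy ((n : G)⁻¹) (η₁ : K' → ℂ) (η₂ : K' → ℂ) ↔
        Clifford.conjFun n (up η₁ : Kn → ℂ) = (up η₂ : Kn → ℂ) := by
    intro n η₁ η₂
    constructor
    · intro h
      funext x
      exact (h (e ⟨n * x * n⁻¹, (inferInstance : Kn.Normal).conj_mem _ x.2 n⟩) (e x) (by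
        show ((x : ↥NP) : G) = (n : G)⁻¹ * ((n * x * n⁻¹ : ↥NP) : G) * (n : G)⁻¹⁻¹
        simp [mul_assoc])).symm
    · intro h a a' ha
      have h1 := congrFun h (e.symm a')
      have e1 : e ⟨n * (e.symm a' : Kn) * n⁻¹,
          (inferInstance : Kn.Normal).conj_mem _ (e.symm a').2 n⟩ = a := by
        refine Subtype.ext ?_
        show (n : G) * (a' : G) * (n : G)⁻¹ = a
        rw [ha]; group
      have h2 : (η₁ : K' → ℂ) (e ⟨n * (e.symm a' : Kn) * n⁻¹,
          (inferInstance : Kn.Normal).conj_mem _ (e.symm a').2 n⟩) =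
          (η₂ : K' → ℂ) (e (e.symm a')) := h1
      rw [e1, e.apply_symm_apply] at h2
      exact h2.symm
  -- naturality
  have hnK' : ∀ n ∈ NP, Normalises n K' := by
    intro n hn
    refine normalises_of_mem fun g hg => Subgroup.mem_inf.mpr
      ⟨hK.conj_mem g (Subgroup.mem_inf.mp hg).1 n,
        mul_mem (mul_mem hn (Subgroup.mem_inf.mp hg).2) (inv_mem hn)⟩
  have hnat : ∀ n ∈ NP, ∀ (θ θ' : IrrCharacter K) (η η' : IrrCharacter K'),
      IsConjBy n (θ : K → ℂ) (θ' : K → ℂ) → IsConjBy n (η : K' → ℂ) (η' : K' → ℂ) →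
      Corr (P := P) θ η → Corr (P := P) θ' η' := by
    intro n hn θ θ' η η' hθ hη h
    refine ⟨IsInv.of_conjBy (normalises_normal n K) (normalises_of_normalizer hn)
      (fun s _ => normalises_normal s K) hθ h.1, IsInv.of_conjBy (hnK' n hn)
      (normalises_of_normalizer hn) (fun s hs => hnK' s (Subgroup.le_normalizer hs)) hη h.2.1, ?_⟩
    rw [charMult_conjBy (normalises_normal n K) (hnK' n hn) inf_le_left hθ hη]
    exact h.2.2
  have huniqη : ∀ θ η η', Corr (P := P) θ η → Corr (P := P) θ η' → η' = η := fun θ η η' h h' =>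
    eq_of_not_dvd_below hS θ h.1 h.2.1 h'.2.1 h.2.2 h'.2.2
  have huniqθ : ∀ θ θ' η, Corr (P := P) θ η → Corr (P := P) θ' η → θ' = θ := fun θ θ' η h h' => by
    obtain ⟨θ₀, -, -, hu⟩ := exists_up hS η h.2.1
    rw [hu _ h'.1 h'.2.2, hu _ h.1 h.2.2]
  -- inertia groups agree
  have hstab : ∀ θ η, Corr (P := P) θ η →
      stabIrr Kn (up η : Kn → ℂ) = (stabIrr K (θ : K → ℂ)).subgroupOf NP := by
    intro θ η h
    ext n
    rw [Subgroup.mem_subgroupOf]
    have hn' : (n : G)⁻¹ ∈ NP := inv_mem n.2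
    constructor
    · intro hn
      have h1 := (hconj n η η).mpr hn
      have h2 := hnat _ hn' θ ⟨_, Clifford.isIrrCharacter_conjFun (n : G) θ.2⟩ η η
        (isConjBy_conjFun (n : G) _) h1 h
      exact congrArg Subtype.val (huniqθ _ _ _ h h2)
    · intro hn
      have h1 : IsConjBy (n : G)⁻¹ (θ : K → ℂ) (θ : K → ℂ) := mem_stabIrr.mp (inv_mem hn)
      obtain ⟨η', hη'⟩ := exists_isConjBy (hnK' _ hn') η
      have h2 := huniqη _ _ _ h (hnat _ hn' θ θ η η' h1 hη' h)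
      rw [h2] at hη'
      exact (hconj n η η).mp hη'
  -- the map
  have hex : ∀ χ : CharSums.RealIrr G, ∃ θ : CharSums.RealIrr ↥K, ∃ η : IrrCharacter K',
      ∃ ξ : CharSums.RealIrr ↥NP,
        classInner (fun n : K => (χ.1 : G → ℂ) n) (θ.1 : K → ℂ) ≠ 0 ∧
        Corr (P := P) θ.1 η ∧
        classInner (fun x : Kn => (ξ.1 : ↥NP → ℂ) x) (up η : Kn → ℂ) ≠ 0 := by
    intro χ
    obtain ⟨θ, hθi, hθ⟩ := exists_inv_below (P := P) hodd χ (hr χ.1 χ.2)
    obtain ⟨η, hη, hone, -⟩ := exists_down hS θ.1 hθi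
    have hc : Corr (P := P) θ.1 η := ⟨hθi, hη, fun hd => by
      rw [(ZMod.natCast_eq_zero_iff _ p).mpr hd] at hone
      rcases hone with e | e
      · exact zero_ne_one e
      · exact one_ne_zero (neg_eq_zero.mp e.symm)⟩
    have hre := real_of_corr_left hS hc θ.2
    obtain ⟨ξ, hξ⟩ := CharSums.exists_real_over Kn hoddn ⟨up η, fun x => hre _⟩
    exact ⟨θ, η, ξ, hθ, hc, hξ⟩
  choose θf ηf ξf hθf hcf hξf using hex
  have hre : ∀ χ, ∀ k, ((ηf χ : K' → ℂ) k).im = 0 := fun χ =>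
    real_of_corr_left hS (hcf χ) (θf χ).2
  have hdeg : ∀ χ, SignCongr p (Cfsg.charDegree ((ξf χ).1 : ↥NP → ℂ))
      (Cfsg.charDegree (χ.1 : G → ℂ)) := by
    intro χ
    have h1 := apply_one_of_real_over K hodd (θf χ) χ (hθf χ)
    have h2 := apply_one_of_real_over Kn hoddn ⟨up (ηf χ), fun x => hre χ _⟩ (ξf χ) (hξf χ)
    simp only at h2
    rw [hstab _ _ (hcf χ)] at h2
    have hd1 : (up (ηf χ) : Kn → ℂ) 1 = (Cfsg.charDegree (ηf χ : K' → ℂ) : ℂ) := by
      rw [← OddReal.charDegree_spec (Chars.irr_isCharacter (ηf χ))]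
      exact congrArg (ηf χ : K' → ℂ) (map_one e)
    rw [OddReal.charDegree_spec (Chars.irr_isCharacter (θf χ).1), ← Nat.cast_mul] at h1
    rw [hd1, ← Nat.cast_mul] at h2
    unfold SignCongr
    rw [OddReal.charDegree_eq h1, OddReal.charDegree_eq h2, Nat.cast_mul, Nat.cast_mul,
      ← index_congr P _ (isInv_iff_le_stabIrr.mp (hcf χ).1)]
    rcases degree_congr hS (θf χ).1 (hcf χ).1 (ηf χ) (hcf χ).2.1 (hcf χ).2.2 with e' | e'
    · exact Or.inl (by rw [e'])
    · exact Or.inr (by rw [e', mul_neg, neg_neg])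
  have hprime : ∀ χ, ¬ p ∣ Cfsg.charDegree ((ξf χ).1 : ↥NP → ℂ) := by
    intro χ hd
    rw [← ZMod.natCast_eq_zero_iff] at hd
    apply hr χ.1 χ.2
    rw [← ZMod.natCast_eq_zero_iff]
    rcases hdeg χ with e' | e'
    · rw [← e', hd]
    · rw [hd, eq_comm, neg_eq_zero] at e'
      exact e'
  refine ⟨fun χ => ⟨(ξf χ).1, (ξf χ).2, hprime χ⟩, ⟨?_, ?_⟩, hdeg⟩
  · intro χ₁ χ₂ h
    have h1 : (ξf χ₁).1 = (ξf χ₂).1 := congrArg (fun z : RealPrime p ↥NP => z.1) h
    have h3 := hξf χ₂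
    rw [← h1] at h3
    obtain ⟨n, hn⟩ := Clifford.exists_conjFun_eq_of_constituent (ξf χ₁).1.2 (up (ηf χ₁)).2
      (up (ηf χ₂)).2 (hξf χ₁) h3
    have h4 := hnat _ (inv_mem n.2) (θf χ₁).1
      ⟨_, Clifford.isIrrCharacter_conjFun (n : G) (θf χ₁).1.2⟩ (ηf χ₁) (ηf χ₂)
      (isConjBy_conjFun (n : G) _) ((hconj n _ _).mpr hn) (hcf χ₁)
    have h5 := congrArg Subtype.val (huniqθ _ _ _ h4 (hcf χ₂))
    obtain ⟨χ₀, -, hu⟩ := CharSums.existsUnique_real_over K hodd (θf χ₁)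
    refine (hu χ₁ (hθf χ₁)).trans (hu χ₂ ?_).symm
    have h6 := hθf χ₂
    rw [h5] at h6
    show classInner (Clifford.resFun K (χ₂.1 : G → ℂ)) _ ≠ 0
    rw [← Clifford.classInner_resFun_conjFun (Chars.irr_isClassFunction χ₂.1) (n : G)]
    exact h6
  · rintro ⟨ξ, hξr, hξp⟩
    obtain ⟨η', hη'⟩ := exists_real_below Kn hoddn ⟨ξ, hξr⟩
    set η := down η'.1 with hη
    have hηr : ∀ k, ((η : K' → ℂ) k).im = 0 := fun k => η'.2 _
    have hηi : IsInv (P : Subgroup G) (η : K' → ℂ) := by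
      have hd := apply_one_of_real_over Kn hoddn η' ⟨ξ, hξr⟩ hη'
      rw [OddReal.charDegree_spec (Chars.irr_isCharacter η'.1), ← Nat.cast_mul] at hd
      have hidx : ¬ p ∣ (stabIrr Kn (η'.1 : Kn → ℂ)).index := fun h => hξp (by
        rw [OddReal.charDegree_eq hd]; exact h.mul_right _)
      obtain ⟨q, hq⟩ := ((P.2).of_equiv
        (Subgroup.subgroupOfEquivOfLe (Subgroup.le_normalizer (H := (P : Subgroup G)))).symm
        ).nonempty_fixed_point_of_prime_not_dvd_card (↥NP ⧸ stabIrr Kn (η'.1 : Kn → ℂ)) hidx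
      obtain ⟨x, rfl⟩ := QuotientGroup.mk_surjective q
      intro s hs a a' ha
      have hs' : (x : G) * s * (x : G)⁻¹ ∈ (P : Subgroup G) :=
        (Subgroup.mem_normalizer_iff.mp x.2 s).mp hs
      let sN : ↥NP := ⟨s, Subgroup.le_normalizer hs⟩
      have h3 : (((x * sN * x⁻¹ * x : ↥NP)) : ↥NP ⧸ stabIrr Kn (η'.1 : Kn → ℂ)) = (x : ↥NP ⧸ _) :=
        hq ⟨x * sN * x⁻¹, hs'⟩
      rw [QuotientGroup.eq] at h3
      have h4 : sN ∈ stabIrr Kn (η'.1 : Kn → ℂ) := by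
        simpa [mul_assoc] using inv_mem h3
      have h5 : sN⁻¹ ∈ stabIrr Kn (η'.1 : Kn → ℂ) := inv_mem h4
      have h6 : Clifford.conjFun sN⁻¹ (up η : Kn → ℂ) = (up η : Kn → ℂ) := by
        rw [hη, hupdown]; exact h5
      have h7 := (hconj sN⁻¹ η η).mpr h6
      refine h7 a a' ?_
      rw [ha]
      simp [sN]
    obtain ⟨θ, hθi, hnd, -⟩ := exists_up hS η hηi
    have hc : Corr (P := P) θ η := ⟨hθi, hηi, hnd⟩
    have hθr := real_of_corr_right hS hc hηr
    obtain ⟨χ, hχ⟩ := CharSums.exists_real_over K hodd ⟨θ, hθr⟩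
    refine ⟨χ, Subtype.ext ?_⟩
    obtain ⟨n, hn, hnθ⟩ := exists_normalizer_conj (P := P) χ.1 (θ₁ := θf χ) (θ₂ := ⟨θ, hθr⟩)
      (hθf χ) hχ (hcf χ).1 hθi
    obtain ⟨η₂, hη₂⟩ := exists_isConjBy (hnK' n⁻¹ (inv_mem hn)) (ηf χ)
    have h8 : Corr (P := P) θ η₂ := hnat n⁻¹ (inv_mem hn) (θf χ).1 θ (ηf χ) η₂
      (hnθ ▸ isConjBy_conjFun n _) hη₂ (hcf χ)
    have h9 : η₂ = η := huniqη _ _ _ hc h8
    rw [h9] at hη₂
    have h10 := (hconj ⟨n, hn⟩ (ηf χ) η).mp hη₂
    rw [hη, hupdown] at h10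
    obtain ⟨ξ₀, -, hu⟩ := CharSums.existsUnique_real_over Kn hoddn η'
    have h11 : classInner (fun x : Kn => ((ξf χ).1 : ↥NP → ℂ) x) (η'.1 : Kn → ℂ) ≠ 0 := by
      rw [← h10]
      show classInner (Clifford.resFun Kn ((ξf χ).1 : ↥NP → ℂ)) _ ≠ 0
      rw [Clifford.classInner_resFun_conjFun (Chars.irr_isClassFunction (ξf χ).1)]
      exact hξf χ
    exact congrArg (fun z : CharSums.RealIrr ↥NP => z.1)
      ((hu (ξf χ) h11).trans (hu ⟨ξ, hξr⟩ hη').symm)

end Main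

end Cfsg.Agent.Lib.RealPrimeDeg
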