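import Mathlib
import Cfsg.Agent.Lib.RealPrimeDeg.Bijection

/-!
# Reduction modulo the Sylow subgroup of the 2-residual
-/

set_option autoImplicit false

namespace Cfsg.Agent.Lib.RealPrimeDeg

open scoped ComplexConjugate
open Cfsg Cfsg.Agent.Lib

universe u

variable {G : Type u} [Group G] [Finite G] {p : ℕ} [hp : Fact p.Prime]

/-- The normal Sylow subgroup of the 2-residual, as a subgroup of `G`. -/
theorem exists_normal_sylow (hsol : Group.IsSolvable (pElems p G)) (hr : RealDeg p G) :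
    ∃ S : Subgroup G, S.Normal ∧ IsPGroup p S ∧ S ≤ pElems 2 G ∧
      ¬ p ∣ S.relIndex (pElems 2 G) ∧ ∀ P : Sylow p G, S ≤ (P : Subgroup G) := by
  obtain ⟨Q⟩ := (inferInstance : Nonempty (Sylow p (pElems 2 G)))
  refine ⟨(Q : Subgroup (pElems 2 G)).map (pElems 2 G).subtype,
    sylow_normal_of_le _ G rfl hsol hr (pElems 2 G) (pElems_normal 2 G) le_rfl 0
      (fun u hu => by simpa using hu) Q, Q.2.map _, Subgroup.map_subtype_le _, ?_, fun P => ?_⟩
  · rw [Subgroup.relIndex, Subgroup.subgroupOf,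
      Subgroup.comap_map_eq_self_of_injective (pElems 2 G).subtype_injective]
    exact Q.not_dvd_index
  · have := sylow_normal_of_le _ G rfl hsol hr (pElems 2 G) (pElems_normal 2 G) le_rfl 0
      (fun u hu => by simpa using hu) Q
    exact sup_eq_right.mp (P.3 (IsPGroup.to_sup_of_normal_left (Q.2.map _) P.2) le_sup_right)

omit [Finite G] hp in
theorem map_normalizer_eq [Finite G] [Fact p.Prime] {H : Type u} [Group H] (f : G →* H)
    (hf : Function.Surjective f) (P : Sylow p G) :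
    (Subgroup.normalizer ((P : Subgroup G) : Set G)).map f =
      Subgroup.normalizer (((P.mapSurjective hf : Sylow p H) : Subgroup H) : Set H) := by
  rw [Sylow.coe_mapSurjective]
  exact OddReal.map_normalizer f hf P

/-- Real elements of the normalizer meet every real class, when the 2-residual is a `p'`-group. -/
theorem exists_conj_normalizer_of_cop (hr : RealDeg p G) (P : Sylow p G)
    (hK : ¬ p ∣ Nat.card (pElems 2 G)) {x : G} (hx : IsConj x x⁻¹) :
    ∃ y ∈ Subgroup.normalizer ((P : Subgroup G) : Set G), IsConj x y := by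
  classical
  cases nonempty_fintype G
  have := pElems_normal 2 G
  set K := pElems 2 G with hKdef
  have := Fintype.ofFinite K
  have hS : RelSetting p (⊥ : Subgroup G) (P : Subgroup G) K :=
    ⟨bot_le, P.2, bot_le, inferInstance, by rwa [Subgroup.relIndex_bot_left]⟩
  set N := Subgroup.normalizer ((P : Subgroup G) : Set G) with hN
  obtain ⟨f, hf, -⟩ : ∃ f : CharSums.RealIrr G → RealPrime p ↥N, Function.Bijective f ∧ _ :=
    exists_bijection_abelian hS odd_index_pElems_two hr
  let RC := fun (L : Type u) [Group L] =>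
    {C : ConjClasses L // ∀ g : L, ConjClasses.mk g = C → IsConj g g⁻¹}
  have hle : Nat.card (RC G) ≤ Nat.card (RC ↥N) := by
    show Nat.card {C : ConjClasses G // _} ≤ Nat.card {C : ConjClasses ↥N // _}
    rw [← Chars.card_real_irr, ← Chars.card_real_irr]
    refine Nat.card_le_card_of_injective
      (fun χ => (⟨(f χ).1, (f χ).2.1⟩ : CharSums.RealIrr ↥N)) fun a b h => hf.1 ?_
    exact Subtype.ext (congrArg (fun z : CharSums.RealIrr ↥N => z.1) h :)
  have hwd : ∀ {L M : Type u} [Group L] [Group M] (g : L →* M) (C : ConjClasses L),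
      (∀ a, ConjClasses.mk a = C → IsConj a a⁻¹) →
      ∀ b, ConjClasses.mk b = ConjClasses.map g C → IsConj b b⁻¹ := by
    intro L M _ _ g C hC b hb
    obtain ⟨k, rfl⟩ := ConjClasses.exists_rep C
    have h1 : IsConj b (g k) := ConjClasses.mk_eq_mk_iff_isConj.mp hb
    obtain ⟨c, hc⟩ := isConj_iff.mp h1.symm
    have h2 : IsConj (g k) (g k)⁻¹ := by rw [← map_inv]; exact g.map_isConj (hC k rfl)
    exact h1.trans (h2.trans (isConj_iff.mpr ⟨c, by rw [← hc]; group⟩))
  let F : RC ↥N → RC G := fun C => ⟨ConjClasses.map N.subtype C.1, hwd N.subtype C.1 C.2⟩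
  have hodd : Odd (K.subgroupOf N).index :=
    (odd_index_pElems_two (G := G)).of_dvd_nat (Subgroup.relIndex_dvd_index_of_normal K N)
  have hcent : ∀ c : ↥N, IsConj c c⁻¹ → ∀ y ∈ (P : Subgroup G), y * (c : G) = (c : G) * y := by
    intro c hc y hy
    obtain ⟨u, hu⟩ := isConj_iff.mp hc
    have hcK : c ∈ K.subgroupOf N := CharSums.mem_of_inverts _ hodd u c (by
      have := congrArg (·⁻¹) hu
      simpa [mul_assoc] using this)
    have h1 := commutator_mem hS (Subgroup.mem_subgroupOf.mp hcK) c.2 hy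
    rw [Subgroup.mem_bot, mul_inv_eq_one, mul_inv_eq_iff_eq_mul] at h1
    exact h1.symm
  have hFinj : Function.Injective F := by
    rintro ⟨C, hC⟩ ⟨D, hD⟩ h
    obtain ⟨c, rfl⟩ := ConjClasses.exists_rep C
    obtain ⟨d, rfl⟩ := ConjClasses.exists_rep D
    obtain ⟨g, hg⟩ := isConj_iff.mp (ConjClasses.mk_eq_mk_iff_isConj.mp
      (show ConjClasses.mk (c : G) = ConjClasses.mk (d : G) from congrArg Subtype.val h))
    obtain ⟨t, ht, htn⟩ := exists_normalizer_mul P (T := Subgroup.centralizer {(d : G)})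
      (fun y hy => Subgroup.mem_centralizer_singleton_iff.mpr (hcent d (hD d rfl) y hy))
      (g := g) (fun y hy => Subgroup.mem_centralizer_singleton_iff.mpr (by
        rw [← hg]
        calc g * y * g⁻¹ * (g * c * g⁻¹) = g * (y * c) * g⁻¹ := by group
          _ = _ := by rw [hcent c (hC c rfl) y hy]; group))
    refine Subtype.ext (ConjClasses.mk_eq_mk_iff_isConj.mpr (isConj_iff.mpr
      ⟨⟨t * g, htn⟩, Subtype.ext ?_⟩))
    show t * g * (c : G) * (t * g)⁻¹ = d
    rw [show t * g * (c : G) * (t * g)⁻¹ = t * (g * c * g⁻¹) * t⁻¹ by group, hg,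
      Subgroup.mem_centralizer_singleton_iff.mp ht, mul_inv_cancel_right]
  have hbij : Function.Bijective F := (Nat.bijective_iff_injective_and_card F).mpr
    ⟨hFinj, le_antisymm (Nat.card_le_card_of_injective F hFinj) hle⟩
  obtain ⟨⟨C, hC⟩, hCx⟩ := hbij.2 ⟨ConjClasses.mk x, fun g hg => by
    obtain ⟨c, hc⟩ := isConj_iff.mp (ConjClasses.mk_eq_mk_iff_isConj.mp hg).symm
    exact (ConjClasses.mk_eq_mk_iff_isConj.mp hg).trans
      (hx.trans (isConj_iff.mpr ⟨c, by rw [← hc]; group⟩))⟩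
  obtain ⟨y, rfl⟩ := ConjClasses.exists_rep C
  exact ⟨y, y.2, (ConjClasses.mk_eq_mk_iff_isConj.mp
    (show ConjClasses.mk (y : G) = ConjClasses.mk x from congrArg Subtype.val hCx)).symm⟩

/-- The Sylow normalizer meets every real class. -/
theorem exists_conj_normalizer (hsol : Group.IsSolvable (pElems p G)) (hr : RealDeg p G)
    (P : Sylow p G) {x : G} (hx : IsConj x x⁻¹) :
    ∃ y ∈ Subgroup.normalizer ((P : Subgroup G) : Set G), IsConj x y := by
  obtain ⟨S, hSn, -, hSK, hcop, hSP⟩ := exists_normal_sylow hsol hr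
  let π := QuotientGroup.mk' S
  have hπ : Function.Surjective π := QuotientGroup.mk'_surjective S
  have hK : ¬ p ∣ Nat.card (pElems 2 (G ⧸ S)) := by
    rw [← pElems_map (p := 2) π hπ, card_quot_map]
    exact hcop
  obtain ⟨y, hy, hc⟩ := exists_conj_normalizer_of_cop (realDeg_map π hπ hr) (P.mapSurjective hπ) hK
    (x := π x) (by rw [← map_inv]; exact π.map_isConj hx)
  rw [← map_normalizer_eq π hπ P] at hy
  obtain ⟨n, hn, rfl⟩ := hy
  obtain ⟨c, hc⟩ := isConj_iff.mp hc
  obtain ⟨g, rfl⟩ := hπ c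
  refine ⟨g * x * g⁻¹, ?_, isConj_iff.mpr ⟨g, rfl⟩⟩
  have h1 : π (n⁻¹ * (g * x * g⁻¹)) = 1 := by simp only [map_mul, map_inv]; rw [hc]; group
  have h2 := mul_mem hn (Subgroup.le_normalizer (hSP P ((QuotientGroup.eq_one_iff _).mp h1)))
  rwa [mul_inv_cancel_left] at h2

/-- Characters killing a kernel correspond to those of the image, with degrees. -/
theorem exists_descend_bijection {H : Type u} [Group H] (f : G →* H) (hf : Function.Surjective f)
    (Q : ∀ {L : Type u} [Group L], IrrCharacter L → Prop)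
    (hQ : ∀ (ψ : IrrCharacter H) (χ : IrrCharacter G),
      (∀ g, (ψ : H → ℂ) (f g) = (χ : G → ℂ) g) → (Q χ ↔ Q ψ))
    (hker : ∀ χ : IrrCharacter G, Q χ → ∀ x, f x = 1 → (χ : G → ℂ) x = (χ : G → ℂ) 1) :
    ∃ b : {χ : IrrCharacter G // Q χ} → {ψ : IrrCharacter H // Q ψ}, Function.Bijective b ∧
      ∀ χ, Cfsg.charDegree ((b χ).1 : H → ℂ) = Cfsg.charDegree (χ.1 : G → ℂ) := by
  classical
  have : Finite H := Finite.of_surjective f hf
  choose ψ hψ using fun χ : {χ : IrrCharacter G // Q χ} =>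
    OddReal.descend f hf χ.1 (hker χ.1 χ.2)
  refine ⟨fun χ => ⟨ψ χ, (hQ _ _ (hψ χ)).mp χ.2⟩, ⟨fun a b h => ?_, ?_⟩,
    fun χ => OddReal.charDegree_congr (by rw [← hψ χ, map_one])⟩
  · refine Subtype.ext (Subtype.ext (funext fun g => ?_))
    rw [← hψ a, ← hψ b, show ψ a = ψ b from Subtype.ext_iff.mp h]
  · rintro ⟨φ, hφ⟩
    let χ : IrrCharacter G := ⟨_, Chars.isIrrCharacter_comp_surjective f hf φ.2⟩
    refine ⟨⟨χ, (hQ φ χ fun g => rfl).mpr hφ⟩, Subtype.ext (Subtype.ext (funext fun h => ?_))⟩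
    obtain ⟨g, rfl⟩ := hf h
    exact hψ ⟨χ, (hQ φ χ fun g => rfl).mpr hφ⟩ g

/-- The bijection onto the real characters of `p'`-degree of the Sylow normalizer. -/
theorem exists_bijection (hsol : Group.IsSolvable (pElems p G)) (hr : RealDeg p G)
    (P : Sylow p G) :
    ∃ f : CharSums.RealIrr G → RealPrime p ↥(Subgroup.normalizer ((P : Subgroup G) : Set G)),
      Function.Bijective f ∧
      ∀ χ, SignCongr p
        (Cfsg.charDegree ((f χ).1 : ↥(Subgroup.normalizer ((P : Subgroup G) : Set G)) → ℂ))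
        (Cfsg.charDegree (χ.1 : G → ℂ)) := by
  classical
  obtain ⟨S, hSn, -, hSK, hcop, hSP⟩ := exists_normal_sylow hsol hr
  set N := Subgroup.normalizer ((P : Subgroup G) : Set G) with hN
  set D := ⁅S, S⁆ with hD
  have : D.Normal := Subgroup.commutator_normal S S
  have hDS : D ≤ S := Subgroup.commutator_le_self S
  have hDP : D ≤ ⁅(P : Subgroup G), (P : Subgroup G)⁆ := Subgroup.commutator_mono (hSP P) (hSP P)
  let π := QuotientGroup.mk' D
  have hπ : Function.Surjective π := QuotientGroup.mk'_surjective D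
  set P' : Sylow p (G ⧸ D) := P.mapSurjective hπ with hP'
  have hA : (S.map π).Normal := hSn.map π hπ
  have : IsMulCommutative (S.map π) := by
    refine ⟨⟨fun a b => Subtype.ext ?_⟩⟩
    have h1 := Subgroup.commutator_mem_commutator a.2 b.2
    rw [← Subgroup.map_commutator, (Subgroup.map_eq_bot_iff _).mpr (by rw [QuotientGroup.ker_mk']),
      Subgroup.mem_bot, commutatorElement_eq_one_iff_mul_comm] at h1
    exact h1
  have := pElems_normal 2 (G ⧸ D)
  have := Fintype.ofFinite (pElems 2 (G ⧸ D))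
  have hS : RelSetting p (S.map π) (P' : Subgroup (G ⧸ D)) (pElems 2 (G ⧸ D)) := by
    refine ⟨?_, P'.2, ?_, inferInstance, ?_⟩
    · rw [hP', Sylow.coe_mapSurjective]; exact Subgroup.map_mono (hSP P)
    · rw [← pElems_map (p := 2) π hπ]; exact Subgroup.map_mono hSK
    · rw [← pElems_map (p := 2) π hπ, Subgroup.relIndex_map_map, QuotientGroup.ker_mk',
        sup_eq_left.mpr hDS, sup_eq_left.mpr (hDS.trans hSK)]
      exact hcop
  obtain ⟨f0, hf0, hdeg0⟩ := exists_bijection_abelian hS odd_index_pElems_two (realDeg_map π hπ hr)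
  -- the two descents
  obtain ⟨b1, hb1, hd1⟩ := exists_descend_bijection π hπ
    (fun {L} _ (χ : IrrCharacter L) => ∀ g, ((χ : L → ℂ) g).im = 0)
    (fun ψ χ h => ⟨fun hχ q => by obtain ⟨g, rfl⟩ := hπ q; rw [h]; exact hχ g,
      fun hψ g => by rw [← h]; exact hψ _⟩)
    (fun χ hχ x hx => le_ker_of_le_commutator P.2 D hDP χ (hr χ hχ) x
      ((QuotientGroup.eq_one_iff x).mp hx))
  let e : N.map π ≃* ↥(Subgroup.normalizer ((P' : Subgroup (G ⧸ D)) : Set (G ⧸ D))) :=
    MulEquiv.subgroupCongr (map_normalizer_eq π hπ P)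
  let φ : ↥N →* ↥(Subgroup.normalizer ((P' : Subgroup (G ⧸ D)) : Set (G ⧸ D))) :=
    e.toMonoidHom.comp (π.subgroupMap N)
  have hφ : Function.Surjective φ := e.surjective.comp (π.subgroupMap_surjective N)
  obtain ⟨b2, hb2, hd2⟩ := exists_descend_bijection φ hφ
    (fun {L} _ (χ : IrrCharacter L) =>
      (∀ g, ((χ : L → ℂ) g).im = 0) ∧ ¬ p ∣ Cfsg.charDegree (χ : L → ℂ))
    (fun ψ χ h => by
      rw [show Cfsg.charDegree (χ : ↥N → ℂ) = Cfsg.charDegree
        (ψ : ↥(Subgroup.normalizer ((P' : Subgroup (G ⧸ D)) : Set (G ⧸ D))) → ℂ) from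
        OddReal.charDegree_congr (by rw [← h, map_one])]
      exact and_congr_left fun _ =>
        ⟨fun hχ q => by obtain ⟨g, rfl⟩ := hφ q; rw [h]; exact hχ g,
        fun hψ g => by rw [← h]; exact hψ _⟩)
    (fun χ hχ x hx => by
      have hxD : (x : G) ∈ D := by
        rw [← QuotientGroup.eq_one_iff]
        exact congrArg Subtype.val hx
      have hPN : (P : Subgroup G) ≤ N := Subgroup.le_normalizer
      refine le_ker_of_le_commutator (P := (P : Subgroup G).subgroupOf N)
        ((P.2).of_equiv (Subgroup.subgroupOfEquivOfLe hPN).symm) (D.subgroupOf N) ?_ χ hχ.2 x hxD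
      intro z hz
      have hz' : (z : G) ∈ ⁅(P : Subgroup G), (P : Subgroup G)⁆ := hDP hz
      rw [← Subgroup.map_subgroupOf_eq_of_le hPN, ← Subgroup.map_commutator] at hz'
      obtain ⟨w, hw, e'⟩ := hz'
      rwa [Subtype.ext e'] at hw)
  obtain ⟨g2, hg2l, hg2r⟩ := Function.bijective_iff_has_inverse.mp hb2
  refine ⟨fun χ => g2 (f0 (b1 χ)),
    (Function.bijective_iff_has_inverse.mpr ⟨b2, hg2r, hg2l⟩).comp (hf0.comp hb1), fun χ => ?_⟩
  have h2 := hd2 (g2 (f0 (b1 χ)))
  rw [hg2r (f0 (b1 χ))] at h2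
  rw [← h2, ← hd1 χ]
  exact hdeg0 (b1 χ)

end Cfsg.Agent.Lib.RealPrimeDeg
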